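import Groth.Agent.L19.LimMod.Sec
import Groth.Agent.L20.ResDescent
import Groth.Agent.L16.CohKernel
import Groth.Agent.L16.CohClosedPush
import Groth.Agent.L19.FPExtend.Colim

/-!
# Morphisms vanishing in the limit vanish at a stage; epimorphisms and isomorphisms
-/

set_option autoImplicit false
set_option linter.style.haveILetI false
set_option linter.unusedSectionVars false
set_option backward.isDefEq.respectTransparency false
set_option backward.isDefEq.respectTransparency.types false

universe u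

open CategoryTheory CategoryTheory.Limits AlgebraicGeometry TopologicalSpace Opposite

noncomputable section

namespace Groth.L19.LimMod

open Groth.L18.Frame (rs rs_rs rs_self pull pull_rs pull_smul)

section General

variable {X Y Z : Scheme.{u}}

theorem exists_affine_cover (X : Scheme.{u}) [CompactSpace X] :
    ∃ (n : ℕ) (U : Fin n → X.Opens), (∀ a, IsAffineOpen (U a)) ∧ ∀ x, ∃ a, x ∈ U a := by
  classical
  choose U hU hxU _ using fun x : X =>
    exists_isAffineOpen_mem_and_subset (x := x) (U := (⊤ : X.Opens)) trivial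
  obtain ⟨t, ht⟩ := CompactSpace.elim_nhds_subcover (fun x : X => (U x : Set X))
    (fun x => (U x).2.mem_nhds (hxU x))
  refine ⟨t.card, fun a => U (t.equivFin.symm a).1, fun a => hU _, fun x => ?_⟩
  obtain ⟨y, hy, hxy⟩ := Set.mem_iUnion₂.1 (ht.ge (Set.mem_univ x))
  exact ⟨t.equivFin ⟨y, hy⟩, by simpa using hxy⟩

theorem isCoh_of_finite (M : X.Modules) [Coh.IsQCoh M]
    (h : ∀ U : X.Opens, IsAffineOpen U → Module.Finite Γ(X, U) Γ(M, U)) : Coh.IsCoh M := by
  refine Groth.L16.CohClosedPush.isCoh_of_finite_sections M fun x => ?_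
  obtain ⟨U, hU, hxU, -⟩ := exists_isAffineOpen_mem_and_subset (x := x) (U := (⊤ : X.Opens)) trivial
  exact ⟨U, hxU, hU, h U hU⟩

/-- Kernels of epimorphisms from finite type onto finite presentation have finite sections. -/
theorem isCoh_kernel {P Q : X.Modules} [Coh.IsQCoh P] [Coh.IsQCoh Q] (p : P ⟶ Q) [Epi p]
    (hP : CohB1.IsFT P) (hQ : CohB1.IsFP Q) : Coh.IsCoh (kernel p) := by
  haveI : Coh.IsQCoh (kernel p) := Groth.L29.DC.isQCoh_kernel' p inferInstance inferInstance
  refine isCoh_of_finite _ fun U hU => ?_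
  haveI : Module.Finite Γ(X, U) Γ(P, U) := Groth.L20.ModStalk.finite_sections P ⟨inferInstance, hP⟩ hU
  haveI := Groth.L20.ModStalk.finitePresentation_sections Q hQ hU
  let f : Γ(P, U) →ₗ[Γ(X, U)] Γ(Q, U) :=
    { toFun := fun m => p.app U m
      map_add' := fun a b => map_add _ a b
      map_smul' := fun a m => p.app_smul a m }
  let i : Γ(kernel p, U) →ₗ[Γ(X, U)] LinearMap.ker f :=
    { toFun := fun k => ⟨(kernel.ι p).app U k, LinearMap.mem_ker.2 (congr(($(kernel.condition p)).app U k))⟩
      map_add' := fun a b => Subtype.ext (map_add _ a b)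
      map_smul' := fun a m => Subtype.ext ((kernel.ι p).app_smul a m) }
  have hi : Function.Bijective i := by
    refine ⟨fun a b hab => Groth.L16.Acc.app_injective (kernel.ι p) U (congrArg Subtype.val hab), fun y => ?_⟩
    obtain ⟨k, hk⟩ := Groth.L19.FPExtend.exists_kernel_section p y.1 y.2
    exact ⟨k, Subtype.ext hk⟩
  haveI : Module.Finite Γ(X, U) (LinearMap.ker f) := Module.Finite.iff_fg.2
    (Module.FinitePresentation.fg_ker f (Groth.L16.AffineBC.surjective_app_of_epi p hU))
  exact Module.Finite.equiv (LinearEquiv.ofBijective i hi).symm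

theorem isFT_of_isFP {M : X.Modules} (hM : CohB1.IsFP M) : CohB1.IsFT M := by
  haveI : SheafOfModules.IsFinitePresentation (R := X.ringCatSheaf) M := hM
  exact (inferInstance : SheafOfModules.IsFiniteType (R := X.ringCatSheaf) M)

theorem isQCoh_pullback (f : X ⟶ Y) (G : Y.Modules) [Coh.IsQCoh G] :
    Coh.IsQCoh ((Scheme.Modules.pullback f).obj G) := Groth.L16.AffineBC.isQCoh_pullback f G

theorem preservesColimits_pullback (f : X ⟶ Y) : PreservesColimitsOfSize.{0, 0} (Scheme.Modules.pullback f) :=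
  (Scheme.Modules.pullbackPushforwardAdjunction f).leftAdjoint_preservesColimits

/-- A pullback kills a module iff it kills its identity. -/
theorem map_id_eq_zero_iff (f : X ⟶ Y) (G : Y.Modules) :
    (Scheme.Modules.pullback f).map (𝟙 G) = 0 ↔ IsZero ((Scheme.Modules.pullback f).obj G) := by
  rw [CategoryTheory.Functor.map_id, IsZero.iff_id_eq_zero]

/-- The pullback of the cokernel vanishes iff the pullback of the map is epi. -/
theorem epi_map_iff (f : X ⟶ Y) {F G : Y.Modules} (u : F ⟶ G) :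
    Epi ((Scheme.Modules.pullback f).map u) ↔ IsZero ((Scheme.Modules.pullback f).obj (cokernel u)) := by
  haveI := preservesColimits_pullback f
  constructor
  · intro h
    exact IsZero.of_iso (isZero_cokernel_of_epi _) (PreservesCokernel.iso (Scheme.Modules.pullback f) u)
  · intro h
    exact Abelian.epi_of_cokernel_π_eq_zero _
      (IsZero.eq_zero_of_tgt (IsZero.of_iso h (PreservesCokernel.iso (Scheme.Modules.pullback f) u).symm) _)

/-- If the kernel inclusion of an epimorphism pulls back to zero, the pullback is an isomorphism. -/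
theorem isIso_map_of_kernel (f : X ⟶ Y) {F G : Y.Modules} (u : F ⟶ G) [Epi u]
    (h : (Scheme.Modules.pullback f).map (kernel.ι u) = 0) : IsIso ((Scheme.Modules.pullback f).map u) := by
  haveI := preservesColimits_pullback f
  haveI := additive_pullback f
  let k := CokernelCofork.ofπ u (kernel.condition u)
  have hk : IsColimit k := Abelian.epiIsCokernelOfKernel (KernelFork.ofι (kernel.ι u) (kernel.condition u))
    (kernelIsKernel u)
  have hk' := CokernelCofork.mapIsColimit k hk (Scheme.Modules.pullback f)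
  exact CokernelCofork.IsColimit.isIso_π _ hk' h

end General

variable {I : Type u} [SmallCategory I] [IsCofiltered I] (D : I ⥤ Scheme.{u}) (c : Cone D) (hc : IsLimit c)
  [∀ (i j : I) (f : i ⟶ j), IsAffineHom (D.map f)]

include D in
theorem exists_common {i : I} {κ : Type*} [Finite κ] (j : κ → I) (φ : ∀ a, j a ⟶ i) :
    ∃ (k : I) (ψ : k ⟶ i), ∀ a, ∃ m : k ⟶ j a, m ≫ φ a = ψ := by
  classical
  cases nonempty_fintype κ
  obtain ⟨l, hl⟩ := IsCofiltered.inf_objs_exists (Finset.univ.image fun a => Over.mk (φ a))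
  refine ⟨l.left, l.hom, fun a => ?_⟩
  obtain ⟨m⟩ := hl (Finset.mem_image_of_mem (fun a => Over.mk (φ a)) (Finset.mem_univ a))
  exact ⟨m.left, Over.w m⟩

theorem compactSpace_obj {i j : I} (φ : j ⟶ i) [CompactSpace (D.obj i)] : CompactSpace (D.obj j) :=
  QuasiCompact.compactSpace_of_compactSpace (D.map φ)

variable {i : I} {F G : (D.obj i).Modules}

/-- An equality at the stage gives equality in the limit. -/
theorem map_π_eq_of_map_eq {j : I} (φ : j ⟶ i) (u v : F ⟶ G)
    (h : (Scheme.Modules.pullback (D.map φ)).map u = (Scheme.Modules.pullback (D.map φ)).map v) :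
    (Scheme.Modules.pullback (c.π.app i)).map u = (Scheme.Modules.pullback (c.π.app i)).map v :=
  map_eq_iff (c.π.app j) (D.map φ) (c.w φ) u v h

include hc in
/-- A morphism from a module of finite type vanishing in the limit vanishes at a stage. -/
theorem exists_map_eq_zero [CompactSpace (D.obj i)] (hF : Coh.IsCoh F) [Coh.IsQCoh G] (u : F ⟶ G)
    (h : (Scheme.Modules.pullback (c.π.app i)).map u = 0) :
    ∃ (j : I) (φ : j ⟶ i), (Scheme.Modules.pullback (D.map φ)).map u = 0 := by
  classical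
  haveI := hF.1
  obtain ⟨n, U, hU, hcov⟩ := exists_affine_cover (D.obj i)
  choose s hs using fun a => (Groth.L20.ModStalk.finite_sections F hF (hU a)).fg_top
  have hz : ∀ (q : Σ a, s a), ∃ (j : I) (φ : j ⟶ i), pull (D.map φ) G (U q.1) (u.app (U q.1) q.2.1) = 0 := fun q =>
    exists_pull_eq_zero D c hc (hU q.1) G _ (by
      rw [← Groth.L17.Approx.app_pull, h]; rfl)
  choose j φ hφ using hz
  obtain ⟨k, ψ, hψ⟩ := exists_common D j φ
  refine ⟨k, ψ, ?_⟩
  haveI := isQCoh_pullback (D.map ψ) F
  refine Groth.L20.ResDescent.eq_zero_of_affine _ fun x => ?_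
  obtain ⟨a, ha⟩ := hcov (D.map ψ x)
  refine ⟨D.map ψ ⁻¹ᵁ U a, (hU a).preimage _, ha, fun m => ?_⟩
  have hm : m ∈ Submodule.span Γ(D.obj k, D.map ψ ⁻¹ᵁ U a)
      (Set.range fun q : s a => pull (D.map ψ) F (U a) q.1) :=
    Groth.L17.Approx.span_pull_eq_top (D.map ψ) F (hU a) (fun q : s a => q.1)
      (by rw [Subtype.range_coe_subtype]; exact hs a) ▸ Submodule.mem_top
  induction hm using Submodule.span_induction with
  | mem z hz =>
    obtain ⟨q, rfl⟩ := hz
    obtain ⟨m', hm'⟩ := hψ ⟨a, q⟩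
    rw [Groth.L17.Approx.app_pull, ← hm']
    exact pull_eq_zero_of_trans D (φ ⟨a, q⟩) m' G _ (hφ ⟨a, q⟩)
  | zero => exact map_zero _
  | add x y _ _ hx hy => rw [map_add, hx, hy, add_zero]
  | smul r x _ hx => rw [Scheme.Modules.Hom.app_smul, hx, smul_zero]

include hc in
/-- Equality of morphisms out of a module of finite type descends. -/
theorem exists_map_eq [CompactSpace (D.obj i)] (hF : Coh.IsCoh F) [Coh.IsQCoh G] (u v : F ⟶ G)
    (h : (Scheme.Modules.pullback (c.π.app i)).map u = (Scheme.Modules.pullback (c.π.app i)).map v) :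
    ∃ (j : I) (φ : j ⟶ i), (Scheme.Modules.pullback (D.map φ)).map u = (Scheme.Modules.pullback (D.map φ)).map v := by
  haveI := additive_pullback (c.π.app i)
  obtain ⟨j, φ, hφ⟩ := exists_map_eq_zero D c hc hF (u - v) (by rw [Functor.map_sub, h, sub_self])
  haveI := additive_pullback (D.map φ)
  exact ⟨j, φ, sub_eq_zero.1 (by rw [← Functor.map_sub, hφ])⟩

include hc in
/-- Epimorphisms descend. -/
theorem exists_epi [CompactSpace (D.obj i)] [Coh.IsQCoh F] (hG : Coh.IsCoh G) (u : F ⟶ G)
    (h : Epi ((Scheme.Modules.pullback (c.π.app i)).map u)) :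
    ∃ (j : I) (φ : j ⟶ i), Epi ((Scheme.Modules.pullback (D.map φ)).map u) := by
  haveI := hG.1
  haveI : Coh.IsQCoh (cokernel u) := Groth.L29.DC.isQCoh_cokernel' u inferInstance inferInstance
  have hQ : Coh.IsCoh (cokernel u) := ⟨inferInstance, Groth.L17.Approx.isFT_of_epi (cokernel.π u) hG.2⟩
  obtain ⟨j, φ, hφ⟩ := exists_map_eq_zero D c hc hQ (𝟙 _)
    ((map_id_eq_zero_iff _ _).2 ((epi_map_iff _ u).1 h))
  exact ⟨j, φ, (epi_map_iff _ u).2 ((map_id_eq_zero_iff _ _).1 hφ)⟩

theorem epi_π_of_epi {j : I} (φ : j ⟶ i) (u : F ⟶ G) (h : Epi ((Scheme.Modules.pullback (D.map φ)).map u)) :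
    Epi ((Scheme.Modules.pullback (c.π.app i)).map u) := by
  haveI := h
  rw [← tr_map (c.π.app j) (D.map φ) (c.w φ) u]
  exact epi_tr _ _ _ _

theorem isIso_π_of_isIso {j : I} (φ : j ⟶ i) (u : F ⟶ G) (h : IsIso ((Scheme.Modules.pullback (D.map φ)).map u)) :
    IsIso ((Scheme.Modules.pullback (c.π.app i)).map u) := by
  haveI := h
  rw [← tr_map (c.π.app j) (D.map φ) (c.w φ) u]
  exact isIso_tr _ _ _ _

theorem isFP_pullback' {X Y : Scheme.{u}} (f : X ⟶ Y) (M : Y.Modules) (hM : CohB1.IsFP M) :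
    CohB1.IsFP ((Scheme.Modules.pullback f).obj M) := by
  haveI := Groth.L05.Prufer.isQCoh_of_isFP hM
  haveI := isQCoh_pullback f M
  refine Groth.L05.Prufer.isFP_of_sections _ fun x => ?_
  obtain ⟨V, hV, hxV, -⟩ := exists_isAffineOpen_mem_and_subset (x := f x) (U := (⊤ : Y.Opens)) trivial
  obtain ⟨W, hW, hxW, hWV⟩ := exists_isAffineOpen_mem_and_subset (x := x) (U := f ⁻¹ᵁ V) hxV
  refine ⟨W, hW, hxW, ?_⟩
  letI : Algebra Γ(Y, V) Γ(X, W) := (f.appLE V W hWV).hom.toAlgebra
  letI := Module.compHom Γ((Scheme.Modules.pullback f).obj M, W) (f.appLE V W hWV).hom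
  haveI : IsScalarTower Γ(Y, V) Γ(X, W) Γ((Scheme.Modules.pullback f).obj M, W) :=
    IsScalarTower.of_algebraMap_smul fun _ _ => rfl
  haveI := Groth.L20.ModStalk.finitePresentation_sections M hM hV
  exact Module.FinitePresentation.of_equiv (Groth.L16.AffineBC.isBaseChange_pull f M hV hW hWV).equiv

theorem isCoh_pullback' {X Y : Scheme.{u}} (f : X ⟶ Y) {M : Y.Modules} (hM : Coh.IsCoh M) :
    Coh.IsCoh ((Scheme.Modules.pullback f).obj M) := Groth.L16.AffineBC.isCoh_pullback f hM

include hc in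
/-- Isomorphisms descend. -/
theorem exists_isIso [CompactSpace (D.obj i)] (hF : Coh.IsCoh F) [Coh.IsQCoh G] (hG : CohB1.IsFP G) (u : F ⟶ G)
    (h : IsIso ((Scheme.Modules.pullback (c.π.app i)).map u)) :
    ∃ (j : I) (φ : j ⟶ i), IsIso ((Scheme.Modules.pullback (D.map φ)).map u) := by
  haveI := hF.1
  haveI := h
  obtain ⟨j, φ, hφ⟩ := exists_epi D c hc (G := G) ⟨inferInstance, isFT_of_isFP hG⟩ u inferInstance
  let u' := (Scheme.Modules.pullback (D.map φ)).map u
  haveI : Epi u' := hφ
  haveI := isQCoh_pullback (D.map φ) F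
  haveI := isQCoh_pullback (D.map φ) G
  haveI := compactSpace_obj D φ
  haveI hiso : IsIso ((Scheme.Modules.pullback (c.π.app j)).map u') := by
    have e : (Scheme.Modules.pullback (c.π.app j)).map u' =
        (cmp (c.π.app j) (D.map φ) (c.w φ) F).hom ≫ (Scheme.Modules.pullback (c.π.app i)).map u ≫
          (cmp (c.π.app j) (D.map φ) (c.w φ) G).inv := by
      rw [← Category.assoc, Iso.eq_comp_inv]
      exact cmp_naturality _ _ _ u
    rw [e]; infer_instance
  have hK : Coh.IsCoh (kernel u') :=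
    isCoh_kernel u' (isCoh_pullback' (D.map φ) hF).2 (isFP_pullback' (D.map φ) G hG)
  haveI := hK.1
  obtain ⟨k, ψ, hψ⟩ := exists_map_eq_zero D c hc hK (kernel.ι u') (by
    rw [← cancel_mono ((Scheme.Modules.pullback (c.π.app j)).map u'), ← Functor.map_comp, kernel.condition,
      zero_comp, pullback_map_zero])
  haveI : IsIso ((Scheme.Modules.pullback (D.map ψ)).map u') := isIso_map_of_kernel _ u' hψ
  refine ⟨k, ψ ≫ φ, ?_⟩
  rw [← tr_map (D.map ψ) (D.map φ) (D.map_comp ψ φ).symm u]
  exact isIso_tr' _ _ _ _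

end Groth.L19.LimMod
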