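import Groth.Agent.L19.LimMod.Lift

/-!
# Descent of modules of finite presentation and of their isomorphisms
-/

set_option autoImplicit false
set_option linter.style.haveILetI false
set_option linter.unusedSectionVars false
set_option backward.isDefEq.respectTransparency false
set_option backward.isDefEq.respectTransparency.types false

universe u

open CategoryTheory CategoryTheory.Limits AlgebraicGeometry TopologicalSpace Opposite

noncomputable section

namespace Groth.L19.LimMod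

variable {I : Type u} [SmallCategory I] [IsCofiltered I] (D : I ⥤ Scheme.{u}) (c : Cone D) (hc : IsLimit c)
  [∀ (i j : I) (f : i ⟶ j), IsAffineHom (D.map f)]
variable {i : I}

theorem compactSpace_pt' (hc : IsLimit c) [CompactSpace (D.obj i)] : CompactSpace c.pt :=
  haveI := affine_π D c hc i
  QuasiCompact.compactSpace_of_compactSpace (c.π.app i)

include hc in
/-- Quotients of finite presentation descend. -/
theorem exists_quotient [CompactSpace (D.obj i)] [QuasiSeparatedSpace (D.obj i)] (F : (D.obj i).Modules)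
    [Coh.IsQCoh F] (hF : CohB1.IsFP F) {G : c.pt.Modules} [Coh.IsQCoh G] (hG : CohB1.IsFP G)
    (p : (Scheme.Modules.pullback (c.π.app i)).obj F ⟶ G) [Epi p] :
    ∃ (j : I) (φ : j ⟶ i) (Gj : (D.obj j).Modules) (_ : Coh.IsQCoh Gj)
      (pj : (Scheme.Modules.pullback (D.map φ)).obj F ⟶ Gj)
      (e : (Scheme.Modules.pullback (c.π.app j)).obj Gj ≅ G),
      CohB1.IsFP Gj ∧ Epi pj ∧
        (cmp (c.π.app j) (D.map φ) (c.w φ) F).inv ≫ (Scheme.Modules.pullback (c.π.app j)).map pj ≫ e.hom = p := by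
  haveI := affine_π D c hc i
  haveI := isQCoh_pullback (c.π.app i) F
  have hK : Coh.IsCoh (kernel p) :=
    isCoh_kernel p (isFT_of_isFP (isFP_pullback' (c.π.app i) F hF)) hG
  obtain ⟨H, q, hH, hq⟩ := exists_pull_epi (c.π.app i) (kernel p) hK
  haveI := hq
  haveI := Groth.L05.Prufer.isQCoh_of_isFP hH
  obtain ⟨j, φ, hj, hhj⟩ := exists_hom D c hc H F hH (q ≫ kernel.ι p)
  have hFj := isFP_pullback' (D.map φ) F hF
  have hHj := isFP_pullback' (D.map φ) H hH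
  haveI := isQCoh_pullback (D.map φ) F
  haveI := isQCoh_pullback (D.map φ) H
  have hQ : Coh.IsQCoh (cokernel hj) := Groth.L29.DC.isQCoh_cokernel' hj inferInstance inferInstance
  have hex : ExR ((Scheme.Modules.pullback (c.π.app j)).map hj) ((cmp (c.π.app j) (D.map φ) (c.w φ) F).hom ≫ p) :=
    exR_of_iso (cmp (c.π.app j) (D.map φ) (c.w φ) H).symm (cmp (c.π.app j) (D.map φ) (c.w φ) F).symm (Iso.refl G)
      (by
        rw [← hhj]
        simp [tr])
      (by simp) (exR_of_epi p q)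
  haveI := preservesColimits_pullback (c.π.app j)
  obtain ⟨w, -, -⟩ := id hex
  haveI : IsIso (cokernel.desc _ _ w) := (exR_iff_isIso_desc _ _ w).1 hex
  refine ⟨j, φ, cokernel hj, hQ, cokernel.π hj,
    PreservesCokernel.iso (Scheme.Modules.pullback (c.π.app j)) hj ≪≫ asIso (cokernel.desc _ _ w),
    Groth.L19.FPExtend.isFP_cokernel hHj hFj hj, inferInstance, ?_⟩
  rw [Iso.trans_hom, asIso_hom, PreservesCokernel.π_iso_hom_assoc, cokernel.π_desc, Iso.inv_hom_id_assoc]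

include hc in
/-- Modules of finite presentation descend. -/
theorem exists_module [CompactSpace (D.obj i)] [QuasiSeparatedSpace (D.obj i)] (F : c.pt.Modules)
    [Coh.IsQCoh F] (hF : CohB1.IsFP F) :
    ∃ (j : I) (_ : j ⟶ i) (Fj : (D.obj j).Modules), Coh.IsQCoh Fj ∧ CohB1.IsFP Fj ∧
      Nonempty ((Scheme.Modules.pullback (c.π.app j)).obj Fj ≅ F) := by
  haveI := affine_π D c hc i
  obtain ⟨H, q, hH, hq⟩ := exists_pull_epi (c.π.app i) F ⟨inferInstance, isFT_of_isFP hF⟩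
  haveI := hq
  haveI := Groth.L05.Prufer.isQCoh_of_isFP hH
  obtain ⟨j, φ, Gj, hGq, pj, e, hGf, -, -⟩ := exists_quotient D c hc H hH hF q
  exact ⟨j, φ, Gj, hGq, hGf, ⟨e⟩⟩

theorem tr_eq_tr {j : I} (φ : j ⟶ i) {k : I} (ψ : k ⟶ j) {F G : (D.obj i).Modules}
    (a : (Scheme.Modules.pullback (D.map φ)).obj F ⟶ (Scheme.Modules.pullback (D.map φ)).obj G) :
    tr (c.π.app k) (D.map (ψ ≫ φ)) (c.w (ψ ≫ φ)) (tr (D.map ψ) (D.map φ) (D.map_comp ψ φ).symm a) =
      tr (c.π.app j) (D.map φ) (c.w φ) a :=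
  tr_tr _ _ _ _ _ (c.w ψ) _ a

include hc in
/-- Morphisms at stages agreeing in the limit agree at a later stage. -/
theorem exists_tr_eq [CompactSpace (D.obj i)] {F G : (D.obj i).Modules} (hF : Coh.IsCoh F) [Coh.IsQCoh G]
    {j : I} (φ : j ⟶ i)
    (a b : (Scheme.Modules.pullback (D.map φ)).obj F ⟶ (Scheme.Modules.pullback (D.map φ)).obj G)
    (h : tr (c.π.app j) (D.map φ) (c.w φ) a = tr (c.π.app j) (D.map φ) (c.w φ) b) :
    ∃ (k : I) (ψ : k ⟶ j), tr (D.map ψ) (D.map φ) (D.map_comp ψ φ).symm a =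
      tr (D.map ψ) (D.map φ) (D.map_comp ψ φ).symm b := by
  haveI := compactSpace_obj D φ
  haveI := isQCoh_pullback (D.map φ) G
  obtain ⟨k, ψ, hψ⟩ := exists_map_eq_zero D c hc (isCoh_pullback' (D.map φ) hF) (a - b) (by
    rw [← tr_eq_zero_iff (c.π.app j) (D.map φ) (c.w φ), tr_sub, h, sub_self])
  exact ⟨k, ψ, sub_eq_zero.1 (by rw [← tr_sub, (tr_eq_zero_iff _ _ _ _).2 hψ])⟩

include hc in
/-- Isomorphisms of modules of finite presentation descend. -/
theorem exists_iso [CompactSpace (D.obj i)] [QuasiSeparatedSpace (D.obj i)] (F G : (D.obj i).Modules)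
    [Coh.IsQCoh F] (hF : CohB1.IsFP F) [Coh.IsQCoh G] (hG : CohB1.IsFP G)
    (h : (Scheme.Modules.pullback (c.π.app i)).obj F ≅ (Scheme.Modules.pullback (c.π.app i)).obj G) :
    ∃ (j : I) (φ : j ⟶ i),
      Nonempty ((Scheme.Modules.pullback (D.map φ)).obj F ≅ (Scheme.Modules.pullback (D.map φ)).obj G) := by
  obtain ⟨j₁, φ₁, a, ha⟩ := exists_hom D c hc F G hF h.hom
  obtain ⟨j₂, φ₂, b, hb⟩ := exists_hom D c hc G F hG h.inv
  obtain ⟨k, φ, hk⟩ := exists_common D (κ := Bool) (fun t => cond t j₁ j₂)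
    (fun t => match t with
      | true => φ₁
      | false => φ₂)
  obtain ⟨m₁, hm₁⟩ := hk true
  obtain ⟨m₂, hm₂⟩ := hk false
  let a' := tr (D.map m₁) (D.map φ₁) (r := D.map φ) (by rw [← D.map_comp, ← hm₁]) a
  let b' := tr (D.map m₂) (D.map φ₂) (r := D.map φ) (by rw [← D.map_comp, ← hm₂]) b
  have ha' : tr (c.π.app k) (D.map φ) (c.w φ) a' = h.hom :=
    (tr_tr _ _ _ _ _ (c.w m₁) _ a).trans ha
  have hb' : tr (c.π.app k) (D.map φ) (c.w φ) b' = h.inv :=
    (tr_tr _ _ _ _ _ (c.w m₂) _ b).trans hb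
  obtain ⟨l, ψ, hψ⟩ := exists_tr_eq D c hc ⟨inferInstance, isFT_of_isFP hF⟩ φ (a' ≫ b') (𝟙 _)
    (by rw [tr_comp, ha', hb', tr_id, Iso.hom_inv_id])
  let a'' := tr (D.map ψ) (D.map φ) (D.map_comp ψ φ).symm a'
  let b'' := tr (D.map ψ) (D.map φ) (D.map_comp ψ φ).symm b'
  rw [tr_comp, tr_id] at hψ
  obtain ⟨n, χ, hχ⟩ := exists_tr_eq D c hc ⟨inferInstance, isFT_of_isFP hG⟩ (ψ ≫ φ) (b'' ≫ a'') (𝟙 _) (by
    rw [tr_comp, tr_id, tr_eq_tr, tr_eq_tr, hb', ha', Iso.inv_hom_id])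
  rw [tr_comp, tr_id] at hχ
  refine ⟨n, χ ≫ ψ ≫ φ, ⟨⟨tr (D.map χ) (D.map (ψ ≫ φ)) (D.map_comp χ (ψ ≫ φ)).symm a'',
    tr (D.map χ) (D.map (ψ ≫ φ)) (D.map_comp χ (ψ ≫ φ)).symm b'', ?_, hχ⟩⟩⟩
  rw [← tr_comp]
  show tr _ _ _ (tr _ _ _ a' ≫ tr _ _ _ b') = _
  rw [hψ, tr_id]

theorem iso_π_of_iso {j : I} (φ : j ⟶ i) (F G : (D.obj i).Modules)
    (h : (Scheme.Modules.pullback (D.map φ)).obj F ≅ (Scheme.Modules.pullback (D.map φ)).obj G) :
    Nonempty ((Scheme.Modules.pullback (c.π.app i)).obj F ≅ (Scheme.Modules.pullback (c.π.app i)).obj G) :=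
  haveI := isIso_tr (c.π.app j) (D.map φ) (c.w φ) h.hom
  ⟨asIso (tr (c.π.app j) (D.map φ) (c.w φ) h.hom)⟩

end Groth.L19.LimMod
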