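import Groth.Agent.L19.LimMod.Descend
import Groth.Agent.L18.LocFreeFP
import Groth.Agent.L29.LocFree

/-!
# Local freeness descends from the limit
-/

set_option autoImplicit false
set_option linter.style.haveILetI false
set_option linter.unusedSectionVars false
set_option backward.isDefEq.respectTransparency false
set_option backward.isDefEq.respectTransparency.types false
set_option backward.defeqAttrib.useBackward true

universe u

open CategoryTheory CategoryTheory.Limits AlgebraicGeometry TopologicalSpace Opposite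

noncomputable section

namespace Groth.L19.LimMod

/-- The module is free of rank `n` on the open. -/
abbrev FreeOn {X : Scheme.{u}} (M : X.Modules) (n : ℕ) (W : X.Opens) : Prop :=
  Nonempty (M.restrict W.ι ≅ FlatMod.freeMod (↑W) n)

section General

variable {X Y : Scheme.{u}}

theorem freeOn_of_iso {M N : X.Modules} (e : M ≅ N) {n : ℕ} {W : X.Opens} (h : FreeOn M n W) : FreeOn N n W :=
  h.map fun i => ((Scheme.Modules.restrictFunctor W.ι).mapIso e).symm ≪≫ i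

theorem freeOn_mono {M : X.Modules} {n : ℕ} {W W' : X.Opens} (hW : W' ≤ W) (h : FreeOn M n W) : FreeOn M n W' := by
  obtain ⟨i⟩ := h
  exact Groth.L29.LocFree.restrict_le hW i

theorem freeOn_pullback (f : X ⟶ Y) {M : Y.Modules} {n : ℕ} {W : Y.Opens} (h : FreeOn M n W) :
    FreeOn ((Scheme.Modules.pullback f).obj M) n (f ⁻¹ᵁ W) := by
  obtain ⟨i⟩ := h
  exact Groth.L29.LocFree.restrict_pullback f i

end General

variable {I : Type u} [SmallCategory I] [IsCofiltered I] (D : I ⥤ Scheme.{u}) (c : Cone D) (hc : IsLimit c)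
  [∀ (i j : I) (f : i ⟶ j), IsAffineHom (D.map f)]
variable {i : I}

theorem isFP_freeMod (X : Scheme.{u}) (n : ℕ) : CohB1.IsFP (FlatMod.freeMod X n) :=
  Groth.L18.LFP.isFP_of_presentation _ fun x => by
    refine ⟨⊤, (Groth.L18.LFP.freePresentation _ n).ofIsIso
      ((Groth.L29.LocFree.pullbackFreeIso (⊤ : X.Opens).ι n).symm ≪≫
        ((Scheme.Modules.restrictFunctorIsoPullback (⊤ : X.Opens).ι).app _).symm).hom, trivial, ?_, ?_⟩
    · exact inferInstanceAs (Finite (ULift.{u} (Fin n)))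
    · exact inferInstanceAs (Finite PEmpty.{u + 1})

include hc in
/-- A trivialisation over the preimage of an affine open descends. -/
theorem exists_freeOn {F : (D.obj i).Modules} [Coh.IsQCoh F] (hF : CohB1.IsFP F) {j : I} (φ : j ⟶ i)
    {W : (D.obj j).Opens} (hW : IsAffineOpen W) {n : ℕ}
    (h : FreeOn ((Scheme.Modules.pullback (c.π.app i)).obj F) n (c.π.app j ⁻¹ᵁ W)) :
    ∃ (k : I) (ψ : k ⟶ j), FreeOn ((Scheme.Modules.pullback (D.map (ψ ≫ φ))).obj F) n (D.map ψ ⁻¹ᵁ W) := by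
  obtain ⟨i₀⟩ := h
  let D' := opensDiagram D j W
  let c' := opensCone D c j W
  let o : Over j := Over.mk (𝟙 j)
  haveI : ∀ (a b : Over j) (f : a ⟶ b), IsAffineHom (D'.map f) := fun a b f => by
    haveI : ∀ {a b : I} (f : a ⟶ b), IsAffineHom (D.map f) := fun {a b} f => affine_map D f
    infer_instance
  have hWo : IsAffineOpen (D.map o.hom ⁻¹ᵁ W) := hW.preimage _
  haveI : CompactSpace (D'.obj o) := isCompact_iff_compactSpace.mp hWo.isCompact
  haveI : IsAffine (D'.obj o) := hWo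
  haveI : QuasiSeparatedSpace (D'.obj o) := inferInstance
  let ι₀ := (opensDiagramι D j W).app o
  let M := (Scheme.Modules.pullback (D.map φ)).obj F
  haveI := isQCoh_pullback (D.map φ) F
  let Mo := (Scheme.Modules.pullback (D.map o.hom)).obj M
  haveI := isQCoh_pullback (D.map o.hom) M
  let M' := (Scheme.Modules.pullback ι₀).obj Mo
  haveI := isQCoh_pullback ι₀ Mo
  have hM' : CohB1.IsFP M' := isFP_pullback' _ _ (isFP_pullback' _ _ (isFP_pullback' _ _ hF))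
  haveI : Coh.IsQCoh (FlatMod.freeMod (D'.obj o) n) := Groth.L05.Prufer.isQCoh_of_isFP (isFP_freeMod _ n)
  have hcom : c'.π.app o ≫ ι₀ = (c.π.app j ⁻¹ᵁ W).ι ≫ c.π.app j := by
    simp [c', ι₀, o]
  have e₁ : (Scheme.Modules.pullback (c'.π.app o)).obj M' ≅
      (Scheme.Modules.pullback (c'.π.app o)).obj (FlatMod.freeMod (D'.obj o) n) :=
    (Scheme.Modules.pullbackComp (c'.π.app o) ι₀).app Mo ≪≫
      (Scheme.Modules.pullbackCongr hcom).app Mo ≪≫
      ((Scheme.Modules.pullbackComp (c.π.app j ⁻¹ᵁ W).ι (c.π.app j)).app Mo).symm ≪≫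
      (Scheme.Modules.pullback (c.π.app j ⁻¹ᵁ W).ι).mapIso
        (cmp (c.π.app j) (D.map o.hom) (c.w o.hom) M ≪≫ cmp (c.π.app j) (D.map φ) (c.w φ) F) ≪≫
      ((Scheme.Modules.restrictFunctorIsoPullback _).app _).symm ≪≫ i₀ ≪≫
      (Groth.L29.LocFree.pullbackFreeIso (c'.π.app o) n).symm
  obtain ⟨k, ψ, ⟨e₂⟩⟩ := exists_iso D' c' (isLimitOpensCone D c hc j W) M' _ hM' (isFP_freeMod _ n) e₁
  refine ⟨k.left, k.hom, ⟨?_⟩⟩
  have hcom' : D'.map ψ ≫ ι₀ = (D.map k.hom ⁻¹ᵁ W).ι ≫ D.map ψ.left := by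
    simp [D', ι₀, o]
  have hψ : D.map ψ.left ≫ D.map o.hom = D.map k.hom := by rw [← D.map_comp, Over.w ψ]
  exact (Scheme.Modules.restrictFunctorIsoPullback _).app _ ≪≫
    (Scheme.Modules.pullback (D.map k.hom ⁻¹ᵁ W).ι).mapIso
      ((cmp (D.map k.hom) (D.map φ) (D.map_comp _ _).symm F).symm ≪≫
        (cmp (D.map ψ.left) (D.map o.hom) hψ M).symm) ≪≫
    (Scheme.Modules.pullbackComp (D.map k.hom ⁻¹ᵁ W).ι (D.map ψ.left)).app Mo ≪≫
    (Scheme.Modules.pullbackCongr hcom'.symm).app Mo ≪≫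
    ((Scheme.Modules.pullbackComp (D'.map ψ) ι₀).app Mo).symm ≪≫
    e₂ ≪≫ Groth.L29.LocFree.pullbackFreeIso (D'.map ψ) n

include hc in
/-- Local freeness with ranks in a given set descends. -/
theorem exists_locFree [CompactSpace (D.obj i)] {F : (D.obj i).Modules} [Coh.IsQCoh F] (hF : CohB1.IsFP F)
    (P : ℕ → Prop)
    (h : ∀ x : c.pt, ∃ (U : c.pt.Opens) (n : ℕ), P n ∧ x ∈ U ∧
      FreeOn ((Scheme.Modules.pullback (c.π.app i)).obj F) n U) :
    ∃ (j : I) (φ : j ⟶ i), ∀ x : D.obj j, ∃ (U : (D.obj j).Opens) (n : ℕ), P n ∧ x ∈ U ∧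
      FreeOn ((Scheme.Modules.pullback (D.map φ)).obj F) n U := by
  classical
  haveI hA : ∀ {a b : I} (f : a ⟶ b), IsAffineHom (D.map f) := fun {a b} f => affine_map D f
  haveI := affine_π D c hc i
  haveI : CompactSpace c.pt := QuasiCompact.compactSpace_of_compactSpace (c.π.app i)
  have hpt : ∀ x : c.pt, ∃ (k : I) (ψ : k ⟶ i) (W : (D.obj k).Opens) (n : ℕ), P n ∧ x ∈ c.π.app k ⁻¹ᵁ W ∧
      FreeOn ((Scheme.Modules.pullback (D.map ψ)).obj F) n W := fun x => by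
    obtain ⟨U, n, hn, hxU, hfree⟩ := h x
    obtain ⟨_, ⟨_, ⟨a, V, hV, rfl⟩, rfl⟩, hxV, hVU⟩ :=
      (isBasis_preimage_isAffineOpen D c hc).exists_subset_of_mem_open (show x ∈ (U : Set c.pt) from hxU) U.2
    obtain ⟨b, φb, ηb, -⟩ := IsCofilteredOrEmpty.cone_objs i a
    have hpre : c.π.app b ⁻¹ᵁ (D.map ηb ⁻¹ᵁ V) = c.π.app a ⁻¹ᵁ V := (π_preimage D c ηb V).symm
    obtain ⟨k, ψ, hψ⟩ := exists_freeOn D c hc hF φb (hV.preimage (D.map ηb))
      (freeOn_mono (hpre.le.trans hVU) hfree)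
    refine ⟨k, ψ ≫ φb, D.map ψ ⁻¹ᵁ (D.map ηb ⁻¹ᵁ V), n, hn, ?_, hψ⟩
    rw [← π_preimage D c ψ, hpre]
    exact hxV
  choose k ψ W n hn hx hW using hpt
  let V : c.pt → c.pt.Opens := fun x => c.π.app (k x) ⁻¹ᵁ W x
  obtain ⟨t, ht⟩ := CompactSpace.elim_nhds_subcover (X := c.pt) (fun x => (V x : Set c.pt))
    (fun x => (V x).isOpen.mem_nhds (hx x))
  obtain ⟨l, φl, hl⟩ := exists_common D (fun x : t => k x.1) (fun x => ψ x.1)
  choose m hm using hl
  let O : (D.obj l).Opens := ⨆ x : t, D.map (m x) ⁻¹ᵁ W x.1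
  haveI : ∀ a : Over l, CompactSpace ((Over.forget l ⋙ D).obj a) := fun a =>
    haveI := compactSpace_obj D φl
    compactSpace_obj D a.hom
  haveI : ∀ {a b : Over l} (f : a ⟶ b), IsAffineHom ((Over.forget l ⋙ D).map f) := fun {a b} f => hA f.left
  obtain ⟨o, g, hg⟩ := exists_map_eq_top (Over.forget l ⋙ D) (c.whisker (Over.forget l))
    ((Functor.Initial.isLimitWhiskerEquiv (Over.forget l) c).symm hc) (i := Over.mk (𝟙 l)) O (by
      refine top_le_iff.1 fun x _ => ?_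
      obtain ⟨y, hy, hxy⟩ := Set.mem_iUnion₂.1 (ht.ge (Set.mem_univ x))
      refine Opens.mem_iSup.2 ⟨⟨y, hy⟩, ?_⟩
      exact (π_preimage D c (m ⟨y, hy⟩) (W y)).le hxy)
  refine ⟨o.left, g.left ≫ φl, fun x => ?_⟩
  obtain ⟨y, hy⟩ := Opens.mem_iSup.1 (show D.map g.left x ∈ O from hg.ge (Opens.mem_top x))
  refine ⟨D.map g.left ⁻¹ᵁ (D.map (m y) ⁻¹ᵁ W y.1), n y.1, hn _, hy, ?_⟩
  refine freeOn_of_iso (cmp (D.map g.left) (D.map φl) (D.map_comp _ _).symm F) (freeOn_pullback _ ?_)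
  exact freeOn_of_iso (cmp (D.map (m y)) (D.map (ψ y.1)) (by rw [← D.map_comp, hm]) F) (freeOn_pullback _ (hW y.1))

/-- Local freeness at a stage passes to the limit. -/
theorem locFree_π {F : (D.obj i).Modules} (P : ℕ → Prop) {j : I} (φ : j ⟶ i)
    (h : ∀ x : D.obj j, ∃ (U : (D.obj j).Opens) (n : ℕ), P n ∧ x ∈ U ∧
      FreeOn ((Scheme.Modules.pullback (D.map φ)).obj F) n U) :
    ∀ x : c.pt, ∃ (U : c.pt.Opens) (n : ℕ), P n ∧ x ∈ U ∧
      FreeOn ((Scheme.Modules.pullback (c.π.app i)).obj F) n U := fun x => by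
  obtain ⟨U, n, hn, hxU, hU⟩ := h (c.π.app j x)
  exact ⟨c.π.app j ⁻¹ᵁ U, n, hn, hxU,
    freeOn_of_iso (cmp (c.π.app j) (D.map φ) (c.w φ) F) (freeOn_pullback (c.π.app j) hU)⟩

end Groth.L19.LimMod
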