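import Groth.Agent.L19.LimMod.Right
import Groth.Agent.L17.QCohExtension

/-!
# Morphisms and modules of finite presentation descend from the limit
-/

set_option autoImplicit false
set_option linter.style.haveILetI false
set_option linter.unusedSectionVars false
set_option backward.isDefEq.respectTransparency false
set_option backward.isDefEq.respectTransparency.types false

universe u

open CategoryTheory CategoryTheory.Limits AlgebraicGeometry TopologicalSpace Opposite

noncomputable section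

namespace Groth.L19.LimMod

open Groth.L18.Frame (rs rs_rs rs_self pull pull_rs pull_smul)

section General

variable {X Y Z : Scheme.{u}}

/-- A morphism of quasi-coherent modules reaching generators on an affine cover is epi. -/
theorem epi_of_hits {H F : X.Modules} [Coh.IsQCoh H] [Coh.IsQCoh F] (p : H ⟶ F) {κ : Type*} (U : κ → X.Opens)
    (hU : ∀ a, IsAffineOpen (U a)) (hcov : ∀ x, ∃ a, x ∈ U a)
    (h : ∀ a, ∃ S : Set Γ(F, U a), Submodule.span Γ(X, U a) S = ⊤ ∧ ∀ m ∈ S, m ∈ Set.range (p.app (U a))) :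
    Epi p := by
  refine Groth.L17.Approx.epi_of_surjective_cover p U hU hcov fun a y => ?_
  obtain ⟨S, hS, hSp⟩ := h a
  have hy : y ∈ Submodule.span Γ(X, U a) S := hS ▸ Submodule.mem_top
  induction hy using Submodule.span_induction with
  | mem z hz => exact hSp z hz
  | zero => exact ⟨0, map_zero _⟩
  | add a b _ _ ha hb =>
    obtain ⟨a', rfl⟩ := ha
    obtain ⟨b', rfl⟩ := hb
    exact ⟨a' + b', map_add _ _ _⟩
  | smul r a _ ha =>
    obtain ⟨a', rfl⟩ := ha
    exact ⟨r • a', p.app_smul _ _⟩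

/-- Finitely many sections over affine opens come from one module of finite presentation. -/
theorem exists_fp_hits [CompactSpace X] [QuasiSeparatedSpace X] (F : X.Modules) [Coh.IsQCoh F] {κ : Type u}
    [Finite κ] (U : κ → X.Opens) (hU : ∀ a, IsCompact (U a : Set X)) (s : ∀ a, Γ(F, U a)) :
    ∃ (H : X.Modules) (p : H ⟶ F), CohB1.IsFP H ∧ ∀ a, s a ∈ Set.range (p.app (U a)) := by
  choose P f hP hf using fun a => Groth.L19.FPExtend.exists_fp_hit F (U a) (hU a) (s a)
  refine ⟨∐ P, Sigma.desc f, Groth.L19.FPExtend.isFP_sigma P hP, fun a => ?_⟩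
  obtain ⟨z, hz⟩ := hf a
  refine ⟨(Sigma.ι P a).app (U a) z, Eq.trans ?_ hz⟩
  exact congr(($(Sigma.ι_desc f a)).app (U a) z)

/-- A finite type module on the source of an affine morphism is a quotient of a pullback. -/
theorem exists_pull_epi [CompactSpace Y] [QuasiSeparatedSpace Y] (f : X ⟶ Y) [IsAffineHom f] (F : X.Modules)
    (hF : Coh.IsCoh F) :
    ∃ (H : Y.Modules) (q : (Scheme.Modules.pullback f).obj H ⟶ F), CohB1.IsFP H ∧ Epi q := by
  classical
  haveI := hF.1
  haveI : Coh.IsQCoh ((Scheme.Modules.pushforward f).obj F) := Groth.L16.QcqsPush.isQCoh_push F f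
  obtain ⟨n, U, hU, hcov⟩ := exists_affine_cover Y
  choose s hs using fun a => (Groth.L20.ModStalk.finite_sections F hF ((hU a).preimage f)).fg_top
  obtain ⟨H, θ, hH, hθ⟩ := exists_fp_hits ((Scheme.Modules.pushforward f).obj F)
    (κ := Σ a : ULift.{u} (Fin n), s a.down) (fun z => U z.1.down) (fun z => (hU _).isCompact) (fun z => z.2.1)
  haveI := Groth.L05.Prufer.isQCoh_of_isFP hH
  haveI := isQCoh_pullback f H
  refine ⟨H, ((Scheme.Modules.pullbackPushforwardAdjunction f).homEquiv H F).symm θ, hH, ?_⟩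
  refine epi_of_hits _ (fun a => f ⁻¹ᵁ U a) (fun a => (hU a).preimage f) (fun x => hcov (f x))
    fun a => ⟨s a, hs a, fun m hm => ?_⟩
  obtain ⟨z, hz⟩ := hθ ⟨ULift.up a, m, hm⟩
  exact ⟨pull f H (U a) z, (Groth.L17.Approx.app_pull_adjoint f θ (U a) z).trans hz⟩

/-- Finite type modules are quotients of modules of finite presentation. -/
theorem exists_fp_epi [CompactSpace X] [QuasiSeparatedSpace X] (F : X.Modules) (hF : Coh.IsCoh F) :
    ∃ (H : X.Modules) (p : H ⟶ F), CohB1.IsFP H ∧ Epi p := by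
  classical
  haveI := hF.1
  obtain ⟨n, U, hU, hcov⟩ := exists_affine_cover X
  choose s hs using fun a => (Groth.L20.ModStalk.finite_sections F hF (hU a)).fg_top
  obtain ⟨H, p, hH, hp⟩ := exists_fp_hits F (κ := Σ a : ULift.{u} (Fin n), s a.down) (fun z => U z.1.down)
    (fun z => (hU _).isCompact) (fun z => z.2.1)
  haveI := Groth.L05.Prufer.isQCoh_of_isFP hH
  exact ⟨H, p, hH, epi_of_hits p U hU hcov fun a => ⟨s a, hs a, fun m hm => hp ⟨ULift.up a, m, hm⟩⟩⟩

/-- Replacing the kernel by a module mapping onto it keeps right exactness. -/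
theorem exR_of_epi {A B E : X.Modules} (g : B ⟶ E) [Epi g] (e : A ⟶ kernel g) [Epi e] :
    ExR (e ≫ kernel.ι g) g := by
  have w : (e ≫ kernel.ι g) ≫ g = 0 := by rw [Category.assoc, kernel.condition, comp_zero]
  refine ⟨w, ?_, inferInstance⟩
  have h1 := (exR_kernel g).2.1
  exact (ShortComplex.exact_iff_of_epi_of_isIso_of_mono
    (φ := ({ τ₁ := e, τ₂ := 𝟙 _, τ₃ := 𝟙 _, comm₁₂ := (Category.comp_id _).symm,
             comm₂₃ := by simp } :
      ShortComplex.mk (e ≫ kernel.ι g) g w ⟶ ShortComplex.mk (kernel.ι g) g (kernel.condition g)))).2 h1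

section Coherence

variable {W : Scheme.{u}} (p₁ : W ⟶ X) (p₂ : X ⟶ Y) (q : Y ⟶ Z) {r₂ : X ⟶ Z} (w₂ : p₂ ≫ q = r₂)
    {r : W ⟶ Z} (w : p₁ ≫ r₂ = r) {p : W ⟶ Y} (hp : p₁ ≫ p₂ = p) (w' : p ≫ q = r)

include hp in
/-- Two ways to compare sections of iterated pullbacks. -/
theorem cmp_pull_cmp (M : Z.Modules) (U : Z.Opens) (t : Γ((Scheme.Modules.pullback q).obj M, q ⁻¹ᵁ U)) :
    (cmp p₁ r₂ w M).hom.app (r ⁻¹ᵁ U) (rs _ (preimage_eq p₁ r₂ w U).le (pull p₁ _ (r₂ ⁻¹ᵁ U)
      ((cmp p₂ q w₂ M).hom.app (r₂ ⁻¹ᵁ U) (rs _ (preimage_eq p₂ q w₂ U).le (pull p₂ _ _ t))))) =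
    (cmp p q w' M).hom.app (r ⁻¹ᵁ U) (rs _ (preimage_eq p q w' U).le (pull p _ _ t)) := by
  rw [← cmp_cmp p₁ p₂ q w₂ w hp w' M]
  simp only [Scheme.Modules.Hom.comp_app, ConcreteCategory.comp_apply]
  rw [Groth.L16.EpiFrames.app_rs ((cmp p₁ p₂ hp _).inv), cmp_inv_pull, rs_rs,
    Groth.L16.EpiFrames.app_rs ((Scheme.Modules.pullback p₁).map _), Groth.L17.Approx.app_pull,
    Groth.L16.EpiFrames.app_rs (cmp p₂ q w₂ M).hom, ← pull_rs, rs_rs]

end Coherence

end General

variable {I : Type u} [SmallCategory I] [IsCofiltered I] (D : I ⥤ Scheme.{u}) (c : Cone D) (hc : IsLimit c)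
  [∀ (i j : I) (f : i ⟶ j), IsAffineHom (D.map f)]
variable {i : I}

theorem quasiSeparatedSpace_obj {j : I} (φ : j ⟶ i) [QuasiSeparatedSpace (D.obj i)] :
    QuasiSeparatedSpace (D.obj j) :=
  quasiSeparatedSpace_of_quasiSeparated (D.map φ)

/-- From the direct image of the pullback at a stage to that of the limit. -/
def gmap {j : I} (φ : j ⟶ i) (G : (D.obj i).Modules) :
    (Scheme.Modules.pushforward (D.map φ)).obj ((Scheme.Modules.pullback (D.map φ)).obj G) ⟶
      (Scheme.Modules.pushforward (c.π.app i)).obj ((Scheme.Modules.pullback (c.π.app i)).obj G) :=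
  ((Scheme.Modules.pullbackPushforwardAdjunction (c.π.app i)).homEquiv _ _)
    (tr (c.π.app j) (D.map φ) (c.w φ)
      ((Scheme.Modules.pullbackPushforwardAdjunction (D.map φ)).counit.app ((Scheme.Modules.pullback (D.map φ)).obj G)))

theorem gmap_app {j : I} (φ : j ⟶ i) (G : (D.obj i).Modules) (U : (D.obj i).Opens)
    (t : Γ((Scheme.Modules.pullback (D.map φ)).obj G, D.map φ ⁻¹ᵁ U)) :
    (gmap D c φ G).app U t = (cmp (c.π.app j) (D.map φ) (c.w φ) G).hom.app (c.π.app i ⁻¹ᵁ U)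
      (rs _ (π_preimage D c φ U).le (pull (c.π.app j) _ _ t)) := by
  let P := (Scheme.Modules.pushforward (D.map φ)).obj ((Scheme.Modules.pullback (D.map φ)).obj G)
  let ε := (Scheme.Modules.pullbackPushforwardAdjunction (D.map φ)).counit.app ((Scheme.Modules.pullback (D.map φ)).obj G)
  have hε : ε.app (D.map φ ⁻¹ᵁ U) (pull (D.map φ) P U t) = t := by
    have h := Groth.L17.Approx.app_pull_adjoint (D.map φ) (𝟙 P) U t
    rw [Adjunction.homEquiv_counit, CategoryTheory.Functor.map_id, Category.id_comp] at h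
    exact h
  have h1 := tr_app (c.π.app j) (D.map φ) (c.w φ) ε U t
  rw [gmap, Adjunction.homEquiv_unit]
  exact h1.trans (congrArg (fun z => (cmp (c.π.app j) (D.map φ) (c.w φ) G).hom.app _ (rs _ _ (pull (c.π.app j) _ _ z))) hε)

include hc in
/-- Morphisms from modules of finite presentation descend. -/
theorem exists_hom [CompactSpace (D.obj i)] [QuasiSeparatedSpace (D.obj i)] (F G : (D.obj i).Modules)
    [Coh.IsQCoh F] (hF : CohB1.IsFP F) [Coh.IsQCoh G]
    (h : (Scheme.Modules.pullback (c.π.app i)).obj F ⟶ (Scheme.Modules.pullback (c.π.app i)).obj G) :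
    ∃ (j : I) (φ : j ⟶ i) (hj : (Scheme.Modules.pullback (D.map φ)).obj F ⟶ (Scheme.Modules.pullback (D.map φ)).obj G),
      tr (c.π.app j) (D.map φ) (c.w φ) hj = h := by
  classical
  haveI := affine_π D c hc i
  let adjπ := Scheme.Modules.pullbackPushforwardAdjunction (c.π.app i)
  let θ := adjπ.homEquiv _ _ h
  have hFc : Coh.IsCoh F := ⟨inferInstance, isFT_of_isFP hF⟩
  obtain ⟨n, U, hU, hcov⟩ := exists_affine_cover (D.obj i)
  choose s hs using fun a => (Groth.L20.ModStalk.finite_sections F hFc (hU a)).fg_top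
  choose j φ t ht using fun z : (Σ a : ULift.{u} (Fin n), s a.down) =>
    exists_lift_section D c hc (hU z.1.down) G (h.app _ (pull (c.π.app i) F _ z.2.1))
  obtain ⟨k, φk, hk⟩ := exists_common D j φ
  choose m hm using hk
  haveI := compactSpace_obj D φk
  haveI := isQCoh_pullback (D.map φk) G
  let P := (Scheme.Modules.pushforward (D.map φk)).obj ((Scheme.Modules.pullback (D.map φk)).obj G)
  haveI hPq : Coh.IsQCoh P := Groth.L16.QcqsPush.isQCoh_push _ (D.map φk)
  haveI := isQCoh_pullback (c.π.app i) G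
  haveI hTq : Coh.IsQCoh ((Scheme.Modules.pushforward (c.π.app i)).obj ((Scheme.Modules.pullback (c.π.app i)).obj G)) :=
    Groth.L16.QcqsPush.isQCoh_push _ (c.π.app i)
  let δ : F ⊞ P ⟶ _ := biprod.desc θ (-gmap D c φk G)
  have hFP : Coh.IsQCoh (F ⊞ P) :=
    Groth.L17.QCohExtension.isQCoh_extension
      (ShortComplex.mk (biprod.inl : F ⟶ F ⊞ P) biprod.snd biprod.inl_snd)
      (ShortComplex.Splitting.ofHasBinaryBiproduct F P).shortExact inferInstance hPq
  haveI : Coh.IsQCoh (kernel δ) := Groth.L29.DC.isQCoh_kernel' δ hFP hTq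
  have hlift : ∀ z : (Σ a : ULift.{u} (Fin n), s a.down),
      ∃ e : Γ(kernel δ, U z.1.down), (kernel.ι δ ≫ biprod.fst).app (U z.1.down) e = z.2.1 := by
    intro z
    let t' : Γ(P, U z.1.down) := (cmp (D.map (m z)) (D.map (φ z)) (by rw [← D.map_comp, hm]) G).hom.app
      (D.map φk ⁻¹ᵁ U z.1.down) (rs _ (preimage_eq _ _ (by rw [← D.map_comp, hm]) _).le (pull (D.map (m z)) _ _ (t z)))
    have hg : (gmap D c φk G).app _ t' = θ.app _ z.2.1 := by
      rw [gmap_app]
      refine (cmp_pull_cmp (c.π.app k) (D.map (m z)) (D.map (φ z)) _ (c.w φk) (c.w (m z)) (c.w (φ z)) G _ (t z)).trans ?_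
      refine (ht z).trans ?_
      show _ = (adjπ.homEquiv _ _ h).app _ z.2.1
      rw [Adjunction.homEquiv_unit]
      rfl
    let x : Γ(F ⊞ P, U z.1.down) :=
      (biprod.inl : F ⟶ F ⊞ P).app _ z.2.1 + (biprod.inr : P ⟶ F ⊞ P).app _ t'
    have hx : δ.app _ x = 0 := by
      have e1 : (biprod.inl ≫ δ).app _ z.2.1 = θ.app _ z.2.1 := by rw [biprod.inl_desc]
      have e2 : (biprod.inr ≫ δ).app _ t' = - (gmap D c φk G).app _ t' := by rw [biprod.inr_desc]; rfl
      rw [map_add]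
      exact (congrArg₂ (· + ·) e1 (e2.trans (congrArg Neg.neg hg))).trans (add_neg_cancel _)
    obtain ⟨e, he⟩ := Groth.L19.FPExtend.exists_kernel_section δ x hx
    refine ⟨e, ?_⟩
    have e1 : (biprod.inl ≫ (biprod.fst : F ⊞ P ⟶ F)).app _ z.2.1 = z.2.1 := by rw [biprod.inl_fst]; rfl
    have e2 : (biprod.inr ≫ (biprod.fst : F ⊞ P ⟶ F)).app _ t' = 0 := by rw [biprod.inr_fst]; rfl
    show (biprod.fst : F ⊞ P ⟶ F).app _ ((kernel.ι δ).app _ e) = _
    rw [he, map_add]
    exact (congrArg₂ (· + ·) e1 e2).trans (add_zero _)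
  choose e he using hlift
  obtain ⟨H, l, hH, hl⟩ := exists_fp_hits (kernel δ) (fun z : (Σ a : ULift.{u} (Fin n), s a.down) => U z.1.down)
    (fun z => (hU _).isCompact) e
  haveI := Groth.L05.Prufer.isQCoh_of_isFP hH
  let p : H ⟶ F := l ≫ kernel.ι δ ≫ biprod.fst
  let v : H ⟶ P := l ≫ kernel.ι δ ≫ biprod.snd
  have hpv : p ≫ θ = v ≫ gmap D c φk G := by
    have h1 : δ = biprod.fst ≫ θ - biprod.snd ≫ gmap D c φk G := by
      simp only [δ, biprod.desc_eq, Preadditive.comp_neg, ← sub_eq_add_neg]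
      rfl
    have h0 : l ≫ kernel.ι δ ≫ (biprod.fst ≫ θ - biprod.snd ≫ gmap D c φk G) = 0 := by
      rw [show kernel.ι δ ≫ (biprod.fst ≫ θ - biprod.snd ≫ gmap D c φk G) = 0 from
        (congrArg (fun f => kernel.ι δ ≫ f) h1).symm.trans (kernel.condition δ), comp_zero]
    simp only [Preadditive.comp_sub, sub_eq_zero] at h0
    simpa only [p, v, Category.assoc] using h0
  haveI hp : Epi p := epi_of_hits p U hU hcov fun a => ⟨s a, hs a, fun x hx => by
    obtain ⟨y, hy⟩ := hl ⟨ULift.up a, x, hx⟩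
    refine ⟨y, ?_⟩
    show (kernel.ι δ ≫ biprod.fst).app _ (l.app _ y) = x
    rw [hy, he]⟩
  let adjk := Scheme.Modules.pullbackPushforwardAdjunction (D.map φk)
  let b := (adjk.homEquiv _ _).symm v
  have hb : tr (c.π.app k) (D.map φk) (c.w φk) b = (Scheme.Modules.pullback (c.π.app i)).map p ≫ h := by
    apply (adjπ.homEquiv _ _).injective
    rw [Adjunction.homEquiv_naturality_left]
    show adjπ.homEquiv _ _ (tr _ _ _ ((adjk.homEquiv _ _).symm v)) = p ≫ θ
    rw [Adjunction.homEquiv_counit, tr_map_comp, Adjunction.homEquiv_naturality_left, hpv]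
    rfl
  obtain ⟨H', e', hH', he'⟩ := exists_fp_epi (kernel p) (isCoh_kernel p (isFT_of_isFP hH) hF)
  haveI := Groth.L05.Prufer.isQCoh_of_isFP hH'
  haveI := he'
  have hex := exR_of_epi p e'
  obtain ⟨l', ψ, hψ⟩ := exists_map_eq_zero D c hc (i := k)
    (isCoh_pullback' (D.map φk) (M := H') ⟨inferInstance, isFT_of_isFP hH'⟩)
    ((Scheme.Modules.pullback (D.map φk)).map (e' ≫ kernel.ι p) ≫ b) (by
      rw [← tr_eq_zero_iff (c.π.app k) (D.map φk) (c.w φk), tr_map_comp, hb, ← Functor.map_comp_assoc, hex.1,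
        pullback_map_zero, zero_comp])
  have hφl : D.map ψ ≫ D.map φk = D.map (ψ ≫ φk) := (D.map_comp ψ φk).symm
  rw [← tr_eq_zero_iff (D.map ψ) (D.map φk) hφl, tr_map_comp] at hψ
  obtain ⟨w, hexact, hepi⟩ := exR_map (D.map (ψ ≫ φk)) hex
  haveI := hepi
  obtain ⟨hj, hhj⟩ := CokernelCofork.IsColimit.desc' hexact.gIsCokernel _ hψ
  refine ⟨l', ψ ≫ φk, hj, ?_⟩
  haveI := preservesColimits_pullback (c.π.app i)
  rw [← cancel_epi ((Scheme.Modules.pullback (c.π.app i)).map p), ← hb]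
  refine Eq.trans ?_ (tr_tr (c.π.app l') (D.map ψ) (D.map φk) hφl (c.w (ψ ≫ φk)) (c.w ψ) (c.w φk) b)
  rw [← tr_map_comp]
  exact congrArg _ hhj

end Groth.L19.LimMod
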