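import Groth.Agent.L19.LimMod.Right
import Groth.Agent.L19.Limit.Flat
import Groth.Agent.L29.RelPC.FlatPull

/-!
# Monomorphisms and exact sequences descend along limits with flat transition maps
-/

set_option autoImplicit false
set_option linter.style.haveILetI false
set_option linter.unusedSectionVars false
set_option backward.isDefEq.respectTransparency false
set_option backward.isDefEq.respectTransparency.types false

universe u

open CategoryTheory CategoryTheory.Limits AlgebraicGeometry TopologicalSpace Opposite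

noncomputable section

namespace Groth.L19.LimMod

/-- The two composable maps form an exact sequence. -/
def ExM {C : Type*} [Category C] [Abelian C] {A B E : C} (f : A ⟶ B) (g : B ⟶ E) : Prop :=
  ∃ w : f ≫ g = 0, (ShortComplex.mk f g w).Exact

theorem exM_of_iso {C : Type*} [Category C] [Abelian C] {A B E A' B' E' : C} {f : A ⟶ B} {g : B ⟶ E}
    {f' : A' ⟶ B'} {g' : B' ⟶ E'} (a : A ≅ A') (b : B ≅ B') (e : E ≅ E') (hf : a.hom ≫ f' = f ≫ b.hom)
    (hg : b.hom ≫ g' = g ≫ e.hom) (h : ExM f g) : ExM f' g' := by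
  obtain ⟨w, he⟩ := h
  have w' : f' ≫ g' = 0 := by
    rw [← cancel_epi a.hom, reassoc_of% hf, hg, reassoc_of% w, zero_comp, comp_zero]
  exact ⟨w', (ShortComplex.exact_iff_of_iso (ShortComplex.isoMk (S₁ := ShortComplex.mk f g w)
    (S₂ := ShortComplex.mk f' g' w') a b e hf hg)).1 he⟩

section Pullback

variable {X Y : Scheme.{u}} (f : X ⟶ Y) [Flat f]

theorem exM_map {A B E : Y.Modules} {u : A ⟶ B} {v : B ⟶ E} (h : ExM u v) :
    ExM ((Scheme.Modules.pullback f).map u) ((Scheme.Modules.pullback f).map v) := by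
  haveI := additive_pullback f
  haveI := Groth.L29.RelPC.preservesFiniteLimits_pullback f
  haveI := Groth.L29.RelPC.preservesFiniteColimits_pullback f
  obtain ⟨w, he⟩ := h
  exact ⟨by rw [← Functor.map_comp, w, Functor.map_zero], he.map (Scheme.Modules.pullback f)⟩

theorem mono_map_iff {A B : Y.Modules} (u : A ⟶ B) :
    Mono ((Scheme.Modules.pullback f).map u) ↔ IsZero ((Scheme.Modules.pullback f).obj (kernel u)) := by
  haveI := additive_pullback f
  haveI := Groth.L29.RelPC.preservesFiniteLimits_pullback f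
  constructor
  · intro h
    exact IsZero.of_iso (isZero_kernel_of_mono _) (PreservesKernel.iso (Scheme.Modules.pullback f) u)
  · intro h
    exact Preadditive.mono_of_isZero_kernel _
      (IsZero.of_iso h (PreservesKernel.iso (Scheme.Modules.pullback f) u).symm)

theorem exM_map_iff {A B E : Y.Modules} (u : A ⟶ B) (v : B ⟶ E) (w : u ≫ v = 0) :
    ExM ((Scheme.Modules.pullback f).map u) ((Scheme.Modules.pullback f).map v) ↔
      Epi ((Scheme.Modules.pullback f).map (kernel.lift v u w)) := by
  haveI := additive_pullback f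
  haveI := Groth.L29.RelPC.preservesFiniteLimits_pullback f
  have w' : (Scheme.Modules.pullback f).map u ≫ (Scheme.Modules.pullback f).map v = 0 := by
    rw [← Functor.map_comp, w, Functor.map_zero]
  have e : kernel.lift _ _ w' =
      (Scheme.Modules.pullback f).map (kernel.lift v u w) ≫ (PreservesKernel.iso (Scheme.Modules.pullback f) v).hom := by
    rw [← cancel_mono (kernel.ι _), kernel.lift_ι, Category.assoc, PreservesKernel.iso_hom,
      kernelComparison_comp_ι, ← Functor.map_comp, kernel.lift_ι]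
  constructor
  · rintro ⟨_, he⟩
    haveI : Epi (kernel.lift _ _ w') := (ShortComplex.exact_iff_epi_kernel_lift _).1 he
    have e2 : (Scheme.Modules.pullback f).map (kernel.lift v u w) =
        kernel.lift _ _ w' ≫ (PreservesKernel.iso (Scheme.Modules.pullback f) v).inv := by
      rw [e, Category.assoc, Iso.hom_inv_id, Category.comp_id]
    rw [e2]; infer_instance
  · intro h
    refine ⟨w', (ShortComplex.exact_iff_epi_kernel_lift _).2 ?_⟩
    rw [e]; infer_instance

end Pullback

variable {I : Type u} [SmallCategory I] [IsCofiltered I] (D : I ⥤ Scheme.{u}) (c : Cone D) (hc : IsLimit c)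
  [∀ (i j : I) (f : i ⟶ j), IsAffineHom (D.map f)]
variable {i : I}

include hc in
theorem flat_π (hfl : ∀ (a b : I) (t : a ⟶ b), Flat (D.map t)) (j : I) : Flat (c.π.app j) :=
  haveI : ∀ {a b : I} (t : a ⟶ b), IsAffineHom (D.map t) := fun {a b} t => affine_map D t
  Groth.L19.Limit.flat_π_app hc j fun k t => hfl k j t

include hc in
/-- Monomorphisms descend. -/
theorem exists_mono [CompactSpace (D.obj i)] (hfl : ∀ (a b : I) (t : a ⟶ b), Flat (D.map t))
    {F G : (D.obj i).Modules} [Coh.IsQCoh F] [Coh.IsQCoh G] (u : F ⟶ G) (hK : CohB1.IsFT (kernel u))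
    (h : Mono ((Scheme.Modules.pullback (c.π.app i)).map u)) :
    ∃ (j : I) (φ : j ⟶ i), Mono ((Scheme.Modules.pullback (D.map φ)).map u) := by
  haveI := flat_π D c hc hfl i
  haveI : Coh.IsQCoh (kernel u) := Groth.L29.DC.isQCoh_kernel' u inferInstance inferInstance
  obtain ⟨j, φ, hφ⟩ := exists_map_eq_zero D c hc ⟨inferInstance, hK⟩ (𝟙 (kernel u))
    ((map_id_eq_zero_iff _ _).2 ((mono_map_iff _ u).1 h))
  haveI := hfl j i φ
  exact ⟨j, φ, (mono_map_iff _ u).2 ((map_id_eq_zero_iff _ _).1 hφ)⟩

include hc in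
/-- A monomorphism at a stage stays one in the limit. -/
theorem mono_π (hfl : ∀ (a b : I) (t : a ⟶ b), Flat (D.map t)) {F G : (D.obj i).Modules} (u : F ⟶ G)
    {j : I} (φ : j ⟶ i) (h : Mono ((Scheme.Modules.pullback (D.map φ)).map u)) :
    Mono ((Scheme.Modules.pullback (c.π.app i)).map u) := by
  haveI := flat_π D c hc hfl i
  haveI := hfl j i φ
  refine (mono_map_iff _ u).2 ((map_id_eq_zero_iff _ _).1 ?_)
  rw [← pullback_map_zero (c.π.app i) (kernel u) (kernel u)]
  refine map_π_eq_of_map_eq D c φ _ _ ?_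
  rw [pullback_map_zero]
  exact (map_id_eq_zero_iff _ _).2 ((mono_map_iff _ u).1 h)

include hc in
/-- Exactness descends. -/
theorem exists_exM [CompactSpace (D.obj i)] (hfl : ∀ (a b : I) (t : a ⟶ b), Flat (D.map t))
    {F G H : (D.obj i).Modules} [Coh.IsQCoh F] [Coh.IsQCoh G] [Coh.IsQCoh H] (u : F ⟶ G) (v : G ⟶ H)
    (hI : CohB1.IsFT (Limits.image u)) (hK : CohB1.IsFT (kernel v))
    (h : ExM ((Scheme.Modules.pullback (c.π.app i)).map u) ((Scheme.Modules.pullback (c.π.app i)).map v)) :
    ∃ (j : I) (φ : j ⟶ i),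
      ExM ((Scheme.Modules.pullback (D.map φ)).map u) ((Scheme.Modules.pullback (D.map φ)).map v) := by
  haveI := preservesColimits_pullback (c.π.app i)
  have e := Abelian.imageIsoImage u
  haveI hAI : Coh.IsQCoh (Abelian.image u) := Groth.L29.DC.isQCoh_kernel' _ inferInstance
    (Groth.L29.DC.isQCoh_cokernel' u inferInstance inferInstance)
  haveI : Coh.IsQCoh (Limits.image u) :=
    Groth.L29.DC.isQCoh_of_iso' e hAI
  haveI : Epi (factorThruImage u) := inferInstance
  obtain ⟨j, φ, hφ⟩ := exists_map_eq_zero D c hc ⟨inferInstance, hI⟩ (Limits.image.ι u ≫ v) (by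
    haveI : Epi ((Scheme.Modules.pullback (c.π.app i)).map (factorThruImage u)) := inferInstance
    rw [← cancel_epi ((Scheme.Modules.pullback (c.π.app i)).map (factorThruImage u)), ← Functor.map_comp,
      ← Category.assoc, Limits.image.fac, Functor.map_comp, comp_zero]
    exact h.1)
  have hw : (Scheme.Modules.pullback (D.map φ)).map u ≫ (Scheme.Modules.pullback (D.map φ)).map v = 0 := by
    rw [← Functor.map_comp, ← Limits.image.fac u, Category.assoc, Functor.map_comp, hφ, comp_zero]
  let u' := (Scheme.Modules.pullback (D.map φ)).map u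
  let v' := (Scheme.Modules.pullback (D.map φ)).map v
  haveI := isQCoh_pullback (D.map φ) F
  haveI := isQCoh_pullback (D.map φ) G
  haveI := isQCoh_pullback (D.map φ) H
  haveI := compactSpace_obj D φ
  haveI := hfl j i φ
  haveI := flat_π D c hc hfl j
  have hK' : Coh.IsCoh (kernel v') := by
    haveI : Coh.IsQCoh (kernel v) := Groth.L29.DC.isQCoh_kernel' v inferInstance inferInstance
    haveI : Coh.IsQCoh (kernel v') := Groth.L29.DC.isQCoh_kernel' v' inferInstance inferInstance
    haveI := additive_pullback (D.map φ)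
    haveI := Groth.L29.RelPC.preservesFiniteLimits_pullback (D.map φ)
    exact ⟨inferInstance, Groth.L17.Approx.isFT_of_epi
      (PreservesKernel.iso (Scheme.Modules.pullback (D.map φ)) v).hom (isCoh_pullback' (D.map φ) ⟨inferInstance, hK⟩).2⟩
  have hπ : ExM ((Scheme.Modules.pullback (c.π.app j)).map u') ((Scheme.Modules.pullback (c.π.app j)).map v') :=
    exM_of_iso (cmp (c.π.app j) (D.map φ) (c.w φ) F).symm (cmp (c.π.app j) (D.map φ) (c.w φ) G).symm
      (cmp (c.π.app j) (D.map φ) (c.w φ) H).symm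
      (by simp only [Iso.symm_hom]; rw [Iso.inv_comp_eq, ← Category.assoc, Iso.eq_comp_inv]; exact cmp_naturality _ _ _ u)
      (by simp only [Iso.symm_hom]; rw [Iso.inv_comp_eq, ← Category.assoc, Iso.eq_comp_inv]; exact cmp_naturality _ _ _ v) h
  obtain ⟨k, ψ, hψ⟩ := exists_epi D c hc hK' (kernel.lift v' u' hw) ((exM_map_iff _ u' v' hw).1 hπ)
  haveI := hfl k j ψ
  refine ⟨k, ψ ≫ φ, exM_of_iso (cmp (D.map ψ) (D.map φ) (D.map_comp ψ φ).symm F)
    (cmp (D.map ψ) (D.map φ) (D.map_comp ψ φ).symm G) (cmp (D.map ψ) (D.map φ) (D.map_comp ψ φ).symm H)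
    (cmp_naturality _ _ _ u).symm (cmp_naturality _ _ _ v).symm ((exM_map_iff _ u' v' hw).2 hψ)⟩

include hc in
/-- Exactness at a stage passes to the limit. -/
theorem exM_π (hfl : ∀ (a b : I) (t : a ⟶ b), Flat (D.map t)) {F G H : (D.obj i).Modules} (u : F ⟶ G) (v : G ⟶ H)
    {j : I} (φ : j ⟶ i)
    (h : ExM ((Scheme.Modules.pullback (D.map φ)).map u) ((Scheme.Modules.pullback (D.map φ)).map v)) :
    ExM ((Scheme.Modules.pullback (c.π.app i)).map u) ((Scheme.Modules.pullback (c.π.app i)).map v) :=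
  haveI := flat_π D c hc hfl j
  exM_of_iso (cmp (c.π.app j) (D.map φ) (c.w φ) F) (cmp (c.π.app j) (D.map φ) (c.w φ) G)
    (cmp (c.π.app j) (D.map φ) (c.w φ) H) (cmp_naturality _ _ _ u).symm (cmp_naturality _ _ _ v).symm
    (exM_map (c.π.app j) h)

end Groth.L19.LimMod
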