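import Groth.Agent.L19.LimMod.Cmp
import Groth.Agent.L03.ColimTensor
import Mathlib.AlgebraicGeometry.AffineTransitionLimit

/-!
# Sections of pullbacks to a limit of schemes come from stages
-/

set_option autoImplicit false
set_option linter.style.haveILetI false
set_option linter.unusedSectionVars false
set_option backward.isDefEq.respectTransparency false
set_option backward.isDefEq.respectTransparency.types false

universe u

open CategoryTheory CategoryTheory.Limits AlgebraicGeometry TopologicalSpace Opposite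
open scoped TensorProduct

noncomputable section

namespace Groth.L19.LimMod

open Groth.L18.Frame (rs rs_rs rs_self pull pull_rs pull_smul)

section appLE

variable {X Y Z : Scheme.{u}}

theorem appLE_comp_apply (p : X ⟶ Y) (q : Y ⟶ Z) (r : X ⟶ Z) (w : p ≫ q = r) {U : Z.Opens} {V : Y.Opens}
    {W : X.Opens} (e₁ : V ≤ q ⁻¹ᵁ U) (e₂ : W ≤ p ⁻¹ᵁ V) (e : W ≤ r ⁻¹ᵁ U) (a : Γ(Z, U)) :
    p.appLE V W e₂ (q.appLE U V e₁ a) = r.appLE U W e a := by
  subst w
  rw [← ConcreteCategory.comp_apply, Scheme.Hom.appLE_comp_appLE]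

end appLE

variable {I : Type u} [SmallCategory I] [IsCofiltered I] (D : I ⥤ Scheme.{u}) (c : Cone D) (hc : IsLimit c)
  [∀ (i j : I) (f : i ⟶ j), IsAffineHom (D.map f)]

instance affine_map {i j : I} (f : i ⟶ j) : IsAffineHom (D.map f) :=
  ‹∀ (i j : I) (f : i ⟶ j), IsAffineHom (D.map f)› _ _ f

include hc in
theorem affine_π (i : I) : IsAffineHom (c.π.app i) := isAffineHom_π_app D c hc i

theorem π_preimage {i j : I} (φ : j ⟶ i) (U : (D.obj i).Opens) :
    c.π.app i ⁻¹ᵁ U = c.π.app j ⁻¹ᵁ (D.map φ ⁻¹ᵁ U) := preimage_eq _ _ (c.w φ) U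

theorem map_preimage {i j k : I} (φ : j ⟶ i) (ψ : k ⟶ j) (U : (D.obj i).Opens) :
    D.map (ψ ≫ φ) ⁻¹ᵁ U = D.map ψ ⁻¹ᵁ (D.map φ ⁻¹ᵁ U) := preimage_eq _ _ (D.map_comp ψ φ).symm U

/-- The functions on the stages over an affine open. -/
abbrev StageRing {i : I} (U : (D.obj i).Opens) (j : Over i) : Type u := Γ(D.obj j.left, D.map j.hom ⁻¹ᵁ U)

instance stageAlgebra {i : I} (U : (D.obj i).Opens) (j : Over i) : Algebra Γ(D.obj i, U) (StageRing D U j) :=
  ((D.map j.hom).appLE U _ le_rfl).hom.toAlgebra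

theorem stageAlgebra_apply {i : I} (U : (D.obj i).Opens) (j : Over i) (a : Γ(D.obj i, U)) :
    algebraMap Γ(D.obj i, U) (StageRing D U j) a = (D.map j.hom).appLE U _ le_rfl a := rfl

/-- The functions on the limit over an affine open. -/
abbrev LimRing {i : I} (U : (D.obj i).Opens) : Type u := Γ(c.pt, c.π.app i ⁻¹ᵁ U)

instance limAlgebra {i : I} (U : (D.obj i).Opens) : Algebra Γ(D.obj i, U) (LimRing D c U) :=
  ((c.π.app i).appLE U _ le_rfl).hom.toAlgebra

theorem limAlgebra_apply {i : I} (U : (D.obj i).Opens) (a : Γ(D.obj i, U)) :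
    algebraMap Γ(D.obj i, U) (LimRing D c U) a = (c.π.app i).appLE U _ le_rfl a := rfl

/-- The maps from the stages. -/
def toLim {i : I} (U : (D.obj i).Opens) (j : Over i) : StageRing D U j →ₐ[Γ(D.obj i, U)] LimRing D c U :=
  { ((c.π.app j.left).appLE (D.map j.hom ⁻¹ᵁ U) (c.π.app i ⁻¹ᵁ U) (π_preimage D c j.hom U).le).hom with
    commutes' := fun a => appLE_comp_apply _ _ _ (c.w j.hom) _ _ _ a }

theorem toLim_apply {i : I} (U : (D.obj i).Opens) (j : Over i) (a : StageRing D U j) :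
    toLim D c U j a =
      (c.π.app j.left).appLE (D.map j.hom ⁻¹ᵁ U) (c.π.app i ⁻¹ᵁ U) (π_preimage D c j.hom U).le a := rfl

/-- The transition maps. -/
def trans {i : I} (U : (D.obj i).Opens) {j k : Over i} (m : k ⟶ j) :
    StageRing D U j →ₐ[Γ(D.obj i, U)] StageRing D U k :=
  { ((D.map m.left).appLE (D.map j.hom ⁻¹ᵁ U) (D.map k.hom ⁻¹ᵁ U)
      (by rw [← map_preimage, Over.w m])).hom with
    commutes' := fun a => appLE_comp_apply _ _ _ (by rw [← D.map_comp, Over.w m]) _ _ _ a }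

theorem toLim_trans {i : I} (U : (D.obj i).Opens) {j k : Over i} (m : k ⟶ j) :
    (toLim D c U k).comp (trans D U m) = toLim D c U j :=
  AlgHom.ext fun a => appLE_comp_apply _ _ _ (c.w m.left) _ _ _ a

include hc in
/-- Functions on the limit over an affine open come from a stage. -/
theorem exists_lift_function {i : I} {U : (D.obj i).Opens} (hU : IsAffineOpen U) (a : LimRing D c U) :
    ∃ (j : Over i) (x : StageRing D U j), toLim D c U j x = a := by
  haveI : ∀ j, IsAffine ((opensDiagram D i U).obj j) := fun j => hU.preimage _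
  obtain ⟨j, t₀, ht₀⟩ := exists_appTop_π_eq_of_isAffine_of_isLimit _ _
    (isLimitOpensCone D c hc i U) ((c.π.app i ⁻¹ᵁ U).topIso.inv a)
  obtain ⟨t, rfl⟩ := (D.map j.hom ⁻¹ᵁ U).topIso.symm.commRingCatIsoToRingEquiv.surjective t₀
  refine ⟨j, t, ?_⟩
  rw [toLim_apply]
  symm
  convert!
    show a = ((Scheme.Opens.topIso _).inv ≫ ((opensCone D c i U).π.app j).appTop ≫ (Scheme.Opens.topIso _).hom) t from
      (c.π.app i ⁻¹ᵁ U).topIso.commRingCatIsoToRingEquiv.symm_apply_eq.mp ht₀.symm using 3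
  simp [Scheme.Hom.app_eq_appLE, Scheme.Hom.resLE_appLE]

theorem exists_cone {i : I} (j k : Over i) : ∃ l : Over i, Nonempty (l ⟶ j) ∧ Nonempty (l ⟶ k) := by
  obtain ⟨l, a, b, -⟩ := IsCofilteredOrEmpty.cone_objs j k
  exact ⟨l, ⟨a⟩, ⟨b⟩⟩

include hc in
theorem isColim {i : I} {U : (D.obj i).Opens} (hU : IsAffineOpen U) :
    Groth.L03.SmoothStage.IsColim (B := Γ(D.obj i, U)) (StageRing D U) (toLim D c U) where
  nonempty := ⟨Over.mk (𝟙 i)⟩
  dir j k := by
    obtain ⟨l, ⟨a⟩, ⟨b⟩⟩ := exists_cone j k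
    exact ⟨l, trans D U a, trans D U b, toLim_trans D c U a, toLim_trans D c U b⟩
  surj a := exists_lift_function D c hc hU a
  ker j x hx := by
    have hx' : (c.π.app j.left).app (D.map j.hom ⁻¹ᵁ U) x = 0 := by
      rw [← appLE_self (c.π.app j.left) _ le_rfl, ← ro_appLE (c.π.app j.left) (π_preimage D c j.hom U).le
        (π_preimage D c j.hom U).ge x, ← toLim_apply, hx]
      exact map_zero _
    obtain ⟨k, f, hk⟩ := exists_app_map_eq_zero_of_isLimit D c hc (hU.preimage _).isCompact x hx'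
    refine ⟨Over.mk (f ≫ j.hom), trans D U (Over.homMk f), toLim_trans D c U _, ?_⟩
    show (D.map f).appLE _ _ _ x = 0
    rw [Scheme.Hom.appLE, ConcreteCategory.comp_apply, hk, map_zero]

section Base

variable {i : I} {U : (D.obj i).Opens}

/-- Base change description of sections of pullbacks. -/
theorem exists_equiv_pull (hU : IsAffineOpen U) (G : (D.obj i).Modules) [Coh.IsQCoh G] {X : Scheme.{u}}
    (f : X ⟶ D.obj i) [IsAffineHom f] :
    letI : Algebra Γ(D.obj i, U) Γ(X, f ⁻¹ᵁ U) := (f.appLE U _ le_rfl).hom.toAlgebra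
    ∃ e : Γ(G, U) ⊗[Γ(D.obj i, U)] Γ(X, f ⁻¹ᵁ U) ≃+ Γ((Scheme.Modules.pullback f).obj G, f ⁻¹ᵁ U),
      ∀ g a, e (g ⊗ₜ a) = a • pull f G U g := by
  letI : Algebra Γ(D.obj i, U) Γ(X, f ⁻¹ᵁ U) := (f.appLE U _ le_rfl).hom.toAlgebra
  letI := Module.compHom Γ((Scheme.Modules.pullback f).obj G, f ⁻¹ᵁ U) (f.appLE U (f ⁻¹ᵁ U) le_rfl).hom
  haveI : IsScalarTower Γ(D.obj i, U) Γ(X, f ⁻¹ᵁ U) Γ((Scheme.Modules.pullback f).obj G, f ⁻¹ᵁ U) :=
    IsScalarTower.of_algebraMap_smul fun _ _ => rfl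
  have hbc := Groth.L16.AffineBC.isBaseChange_pull f G hU (hU.preimage f) (le_rfl : f ⁻¹ᵁ U ≤ f ⁻¹ᵁ U)
  refine ⟨(TensorProduct.comm _ _ _).toAddEquiv.trans hbc.equiv.toAddEquiv, fun g a => ?_⟩
  show hbc.equiv (a ⊗ₜ g) = _
  rw [IsBaseChange.equiv_tmul]
  exact congrArg (a • ·) (rs_self _ _ _)

include hc in
/-- A section whose pullback to the limit vanishes is killed at a stage. -/
theorem exists_pull_eq_zero (hU : IsAffineOpen U) (G : (D.obj i).Modules) [Coh.IsQCoh G]
    (g : Γ(G, U)) (hg : pull (c.π.app i) G U g = 0) :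
    ∃ (j : I) (φ : j ⟶ i), pull (D.map φ) G U g = 0 := by
  haveI := affine_π D c hc i
  obtain ⟨e, he⟩ := exists_equiv_pull D hU G (c.π.app i)
  let z₀ : Over i := Over.mk (𝟙 i)
  have hz : (toLim D c U z₀).toLinearMap.lTensor Γ(G, U) (g ⊗ₜ[Γ(D.obj i, U)] (1 : StageRing D U z₀)) = 0 := by
    rw [LinearMap.lTensor_tmul, AlgHom.toLinearMap_apply, map_one]
    apply e.injective
    rw [map_zero]
    exact (he g 1).trans ((one_smul _ _).trans hg)
  obtain ⟨k, φ, -, hφ⟩ := Groth.L03.ColimTensor.exists_kill_one (isColim D c hc hU) Γ(G, U) z₀ _ hz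
  refine ⟨k.left, k.hom, ?_⟩
  obtain ⟨e', he'⟩ := exists_equiv_pull D hU G (D.map k.hom)
  rw [LinearMap.lTensor_tmul, AlgHom.toLinearMap_apply, map_one] at hφ
  have := he' g 1
  rw [one_smul] at this
  exact this.symm.trans ((congrArg e' hφ).trans (map_zero e'))

/-- Vanishing persists. -/
theorem pull_eq_zero_of_trans {j k : I} (φ : j ⟶ i) (ψ : k ⟶ j) (G : (D.obj i).Modules) (g : Γ(G, U))
    (h : pull (D.map φ) G U g = 0) : pull (D.map (ψ ≫ φ)) G U g = 0 := by
  rw [← cmp_pull (D.map ψ) (D.map φ) (D.map_comp ψ φ).symm G U g, h, pull_zero, Groth.L16.EpiFrames.rs_zero,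
    map_zero]

include hc in
/-- Sections of the pullback to the limit come from a stage. -/
theorem exists_lift_section (hU : IsAffineOpen U) (G : (D.obj i).Modules) [Coh.IsQCoh G]
    (s : Γ((Scheme.Modules.pullback (c.π.app i)).obj G, c.π.app i ⁻¹ᵁ U)) :
    ∃ (j : I) (φ : j ⟶ i) (t : Γ((Scheme.Modules.pullback (D.map φ)).obj G, D.map φ ⁻¹ᵁ U)),
      (cmp (c.π.app j) (D.map φ) (c.w φ) G).hom.app (c.π.app i ⁻¹ᵁ U)
        (rs _ (π_preimage D c φ U).le (pull (c.π.app j) _ _ t)) = s := by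
  haveI := affine_π D c hc i
  obtain ⟨e, he⟩ := exists_equiv_pull D hU G (c.π.app i)
  obtain ⟨w, hw⟩ := Groth.L03.ColimTensor.exists_lift (isColim D c hc hU) Γ(G, U)
    (κ := Unit) (fun _ => e.symm s)
  obtain ⟨z, hz⟩ := hw ()
  obtain ⟨e', he'⟩ := exists_equiv_pull D hU G (D.map w.hom)
  refine ⟨w.left, w.hom, e' z, ?_⟩
  rw [show s = e ((toLim D c U w).toLinearMap.lTensor Γ(G, U) z) by rw [hz, AddEquiv.apply_symm_apply]]
  clear hz
  induction z using TensorProduct.induction_on with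
  | zero => rw [map_zero, map_zero, map_zero, pull_zero, Groth.L16.EpiFrames.rs_zero, map_zero]
  | tmul g a =>
    rw [LinearMap.lTensor_tmul, AlgHom.toLinearMap_apply]
    refine Eq.trans ?_ (he g _).symm
    rw [he' g a, pull_smul, Groth.L18.Frame.rs_smul, Scheme.Modules.Hom.app_smul, cmp_pull]
    refine congrArg (· • _) ?_
    rw [toLim_apply, Scheme.Hom.appLE]
    rfl
  | add x y hx hy =>
    rw [map_add, map_add, map_add, pull_add, Groth.L16.EpiFrames.rs_add, map_add, hx, hy]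

end Base

end Groth.L19.LimMod
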