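import Groth.Agent.L17.Approx.Pull
import Groth.Agent.L19.ProjBdl.PullComp
import Groth.Agent.L17.BC.PullSec
import Groth.Agent.L16.AffineBC.Local

/-!
# Transporting morphisms of pulled back modules along composites
-/

set_option autoImplicit false
set_option linter.style.haveILetI false
set_option backward.isDefEq.respectTransparency false
set_option backward.isDefEq.respectTransparency.types false

universe u

open CategoryTheory CategoryTheory.Limits AlgebraicGeometry TopologicalSpace Opposite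

noncomputable section

namespace Groth.L19.LimMod

open Groth.L18.Frame (rs rs_rs rs_self pull pull_rs pull_smul)

variable {X Y Z : Scheme.{u}}

theorem additive_pullback (f : X ⟶ Y) : (Scheme.Modules.pullback f).Additive :=
  (Scheme.Modules.pullbackPushforwardAdjunction f).left_adjoint_additive

theorem pullback_map_zero (f : X ⟶ Y) (F G : Y.Modules) :
    (Scheme.Modules.pullback f).map (0 : F ⟶ G) = 0 := by
  haveI := additive_pullback f
  exact Functor.map_zero _ _ _

theorem pull_zero (f : X ⟶ Y) (G : Y.Modules) (U : Y.Opens) : pull f G U 0 = 0 := map_zero _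

theorem pull_add (f : X ⟶ Y) (G : Y.Modules) (U : Y.Opens) (a b : Γ(G, U)) :
    pull f G U (a + b) = pull f G U a + pull f G U b := map_add _ _ _

theorem pull_sum (f : X ⟶ Y) (G : Y.Modules) (U : Y.Opens) {ι : Type*} (s : Finset ι) (a : ι → Γ(G, U)) :
    pull f G U (∑ q ∈ s, a q) = ∑ q ∈ s, pull f G U (a q) := map_sum _ _ _

theorem ro_appLE (f : X ⟶ Y) {U : Y.Opens} {V V' : X.Opens} (e : V ≤ f ⁻¹ᵁ U) (h : V' ≤ V) (a : Γ(Y, U)) :
    Groth.L18.Frame.ro h (f.appLE U V e a) = f.appLE U V' (h.trans e) a := by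
  show (f.appLE U V e ≫ X.presheaf.map _) a = _
  rw [Scheme.Hom.appLE_map]

theorem appLE_self (f : X ⟶ Y) (U : Y.Opens) (e : f ⁻¹ᵁ U ≤ f ⁻¹ᵁ U) (a : Γ(Y, U)) :
    f.appLE U (f ⁻¹ᵁ U) e a = f.app U a := by
  rw [Scheme.Hom.app_eq_appLE]

/-- The pulled back sections determine the morphisms out of a pullback. -/
theorem ext_pull (r : X ⟶ Y) {F : Y.Modules} {N : X.Modules} (φ ψ : (Scheme.Modules.pullback r).obj F ⟶ N)
    (h : ∀ U : Y.Opens, IsAffineOpen U → ∀ m : Γ(F, U),
      φ.app (r ⁻¹ᵁ U) (pull r F U m) = ψ.app (r ⁻¹ᵁ U) (pull r F U m)) : φ = ψ := by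
  apply ((Scheme.Modules.pullbackPushforwardAdjunction r).homEquiv F N).injective
  refine Groth.L16.AffineBC.hom_ext_affine _ _ fun U hU m => ?_
  rw [Adjunction.homEquiv_unit, Adjunction.homEquiv_unit]
  exact h U hU m

section tr

variable (p : X ⟶ Y) (q : Y ⟶ Z) {r : X ⟶ Z} (w : p ≫ q = r)

/-- The comparison of iterated pullbacks. -/
def cmp (G : Z.Modules) :
    (Scheme.Modules.pullback p).obj ((Scheme.Modules.pullback q).obj G) ≅ (Scheme.Modules.pullback r).obj G :=
  (Scheme.Modules.pullbackComp p q ≪≫ Scheme.Modules.pullbackCongr w).app G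

include w in
theorem preimage_eq (U : Z.Opens) : r ⁻¹ᵁ U = p ⁻¹ᵁ (q ⁻¹ᵁ U) := by subst w; rfl

@[reassoc]
theorem cmp_naturality {F G : Z.Modules} (u : F ⟶ G) :
    (Scheme.Modules.pullback p).map ((Scheme.Modules.pullback q).map u) ≫ (cmp p q w G).hom =
      (cmp p q w F).hom ≫ (Scheme.Modules.pullback r).map u :=
  (Scheme.Modules.pullbackComp p q ≪≫ Scheme.Modules.pullbackCongr w).hom.naturality u

theorem cmp_pull (G : Z.Modules) (U : Z.Opens) (g : Γ(G, U)) :
    (cmp p q w G).hom.app (r ⁻¹ᵁ U)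
        (rs _ (preimage_eq p q w U).le (pull p _ (q ⁻¹ᵁ U) (pull q G U g))) =
      pull r G U g := by
  subst w
  refine (congrArg ((cmp p q rfl G).hom.app _) (rs_self _ _ _)).trans ?_
  exact Groth.L17.BC.PullSec.comp_pull p q G U g

theorem cmp_inv_pull (G : Z.Modules) (U : Z.Opens) (g : Γ(G, U)) :
    (cmp p q w G).inv.app (r ⁻¹ᵁ U) (pull r G U g) =
      rs _ (preimage_eq p q w U).le (pull p _ (q ⁻¹ᵁ U) (pull q G U g)) := by
  rw [← cmp_pull p q w G U g]
  exact congr(($((cmp p q w G).hom_inv_id)).app (r ⁻¹ᵁ U)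
    (rs _ (preimage_eq p q w U).le (pull p _ (q ⁻¹ᵁ U) (pull q G U g))))

/-- Transport of a morphism between pullbacks to a further pullback. -/
def tr {F G : Z.Modules} (b : (Scheme.Modules.pullback q).obj F ⟶ (Scheme.Modules.pullback q).obj G) :
    (Scheme.Modules.pullback r).obj F ⟶ (Scheme.Modules.pullback r).obj G :=
  (cmp p q w F).inv ≫ (Scheme.Modules.pullback p).map b ≫ (cmp p q w G).hom

variable {F G H : Z.Modules}

theorem tr_map (u : F ⟶ G) :
    tr p q w ((Scheme.Modules.pullback q).map u) = (Scheme.Modules.pullback r).map u := by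
  rw [tr, cmp_naturality, Iso.inv_hom_id_assoc]

theorem tr_comp (a : (Scheme.Modules.pullback q).obj F ⟶ (Scheme.Modules.pullback q).obj G)
    (b : (Scheme.Modules.pullback q).obj G ⟶ (Scheme.Modules.pullback q).obj H) :
    tr p q w (a ≫ b) = tr p q w a ≫ tr p q w b := by
  simp [tr]

theorem tr_id (F : Z.Modules) : tr p q w (𝟙 ((Scheme.Modules.pullback q).obj F)) = 𝟙 _ := by
  simp [tr]

theorem tr_zero : tr p q w (0 : (Scheme.Modules.pullback q).obj F ⟶ (Scheme.Modules.pullback q).obj G) = 0 := by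
  simp [tr]

theorem tr_eq_zero_iff (a : (Scheme.Modules.pullback q).obj F ⟶ (Scheme.Modules.pullback q).obj G) :
    tr p q w a = 0 ↔ (Scheme.Modules.pullback p).map a = 0 := by
  refine ⟨fun h => ?_, fun h => by simp [tr, h]⟩
  have h1 := congrArg (fun t => (cmp p q w F).hom ≫ t ≫ (cmp p q w G).inv) h
  simpa [tr] using h1

theorem tr_sub (a b : (Scheme.Modules.pullback q).obj F ⟶ (Scheme.Modules.pullback q).obj G) :
    tr p q w (a - b) = tr p q w a - tr p q w b := by
  haveI := additive_pullback p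
  simp [tr, Functor.map_sub]

theorem tr_map_comp (u : F ⟶ G) (b : (Scheme.Modules.pullback q).obj G ⟶ (Scheme.Modules.pullback q).obj H) :
    tr p q w ((Scheme.Modules.pullback q).map u ≫ b) = (Scheme.Modules.pullback r).map u ≫ tr p q w b := by
  rw [tr_comp, tr_map]

include p w in
theorem map_eq_iff (u v : F ⟶ G) (h : (Scheme.Modules.pullback q).map u = (Scheme.Modules.pullback q).map v) :
    (Scheme.Modules.pullback r).map u = (Scheme.Modules.pullback r).map v := by
  rw [← tr_map p q w u, ← tr_map p q w v, h]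

theorem isIso_tr (a : (Scheme.Modules.pullback q).obj F ⟶ (Scheme.Modules.pullback q).obj G) [IsIso a] :
    IsIso (tr p q w a) := by
  unfold tr; infer_instance

theorem epi_tr (a : (Scheme.Modules.pullback q).obj F ⟶ (Scheme.Modules.pullback q).obj G) [Epi a] :
    Epi (tr p q w a) := by
  haveI : PreservesColimitsOfSize.{0, 0} (Scheme.Modules.pullback p) :=
    (Scheme.Modules.pullbackPushforwardAdjunction p).leftAdjoint_preservesColimits
  unfold tr; infer_instance

theorem isIso_tr' (a : (Scheme.Modules.pullback q).obj F ⟶ (Scheme.Modules.pullback q).obj G)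
    [IsIso ((Scheme.Modules.pullback p).map a)] : IsIso (tr p q w a) := by
  unfold tr; infer_instance

theorem epi_tr' (a : (Scheme.Modules.pullback q).obj F ⟶ (Scheme.Modules.pullback q).obj G)
    [Epi ((Scheme.Modules.pullback p).map a)] : Epi (tr p q w a) := by
  unfold tr; infer_instance

/-- Transport on sections. -/
theorem tr_app (b : (Scheme.Modules.pullback q).obj F ⟶ (Scheme.Modules.pullback q).obj G) (U : Z.Opens)
    (m : Γ(F, U)) :
    (tr p q w b).app (r ⁻¹ᵁ U) (pull r F U m) =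
      (cmp p q w G).hom.app (r ⁻¹ᵁ U)
        (rs _ (preimage_eq p q w U).le (pull p _ (q ⁻¹ᵁ U) (b.app (q ⁻¹ᵁ U) (pull q F U m)))) := by
  show (cmp p q w G).hom.app (r ⁻¹ᵁ U) (((Scheme.Modules.pullback p).map b).app (r ⁻¹ᵁ U)
    ((cmp p q w F).inv.app (r ⁻¹ᵁ U) (pull r F U m))) = _
  refine congrArg ((cmp p q w G).hom.app (r ⁻¹ᵁ U)) ?_
  rw [cmp_inv_pull, Groth.L16.EpiFrames.app_rs]
  exact congrArg _ (Groth.L17.Approx.app_pull p b _ _)

end tr

section tr_tr

variable {W : Scheme.{u}} (p₁ : W ⟶ X) (p₂ : X ⟶ Y) (q : Y ⟶ Z) {r₂ : X ⟶ Z} (w₂ : p₂ ≫ q = r₂)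
    {r : W ⟶ Z} (w : p₁ ≫ r₂ = r) {p : W ⟶ Y} (hp : p₁ ≫ p₂ = p) (w' : p ≫ q = r)

theorem cmp_cmp (M : Z.Modules) :
    (cmp p₁ p₂ hp ((Scheme.Modules.pullback q).obj M)).inv ≫
      (Scheme.Modules.pullback p₁).map (cmp p₂ q w₂ M).hom ≫ (cmp p₁ r₂ w M).hom = (cmp p q w' M).hom := by
  rw [← cancel_epi (cmp p q w' M).inv, Iso.inv_hom_id]
  refine ext_pull _ _ _ fun U _ m => ?_
  rw [Scheme.Modules.Hom.id_app]
  simp only [Scheme.Modules.Hom.comp_app, ConcreteCategory.comp_apply, ConcreteCategory.id_apply]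
  rw [cmp_inv_pull, Groth.L16.EpiFrames.app_rs, cmp_inv_pull, rs_rs, Groth.L16.EpiFrames.app_rs,
    Groth.L17.Approx.app_pull]
  refine Eq.trans ?_ (cmp_pull p₁ r₂ w M U m)
  have h : pull r₂ M U m = rs _ (preimage_eq p₂ q w₂ U).le
      ((cmp p₂ q w₂ M).hom.app _ (pull p₂ _ _ (pull q M U m))) := by
    rw [← Groth.L16.EpiFrames.app_rs]
    exact (cmp_pull p₂ q w₂ M U m).symm
  rw [h, ← pull_rs, rs_rs]

include hp in
/-- Transport in two steps. -/
theorem tr_tr {F G : Z.Modules} (b : (Scheme.Modules.pullback q).obj F ⟶ (Scheme.Modules.pullback q).obj G) :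
    tr p₁ r₂ w (tr p₂ q w₂ b) = tr p q w' b := by
  have hnat : (Scheme.Modules.pullback p).map b =
      (cmp p₁ p₂ hp _).inv ≫ (Scheme.Modules.pullback p₁).map ((Scheme.Modules.pullback p₂).map b) ≫
        (cmp p₁ p₂ hp _).hom := by
    rw [cmp_naturality, Iso.inv_hom_id_assoc]
  have e : (cmp p q w' F).inv =
      (cmp p₁ r₂ w F).inv ≫ (Scheme.Modules.pullback p₁).map (cmp p₂ q w₂ F).inv ≫
        (cmp p₁ p₂ hp _).hom := by
    rw [← cancel_mono (cmp p q w' F).hom, Iso.inv_hom_id, ← cmp_cmp p₁ p₂ q w₂ w hp w' F]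
    simp only [Category.assoc, Iso.hom_inv_id_assoc]
    rw [← Functor.map_comp_assoc]
    simp
  rw [tr, tr, tr, e, hnat, ← cmp_cmp p₁ p₂ q w₂ w hp w' G]
  simp only [Functor.map_comp, Category.assoc, Iso.hom_inv_id_assoc]

end tr_tr

end Groth.L19.LimMod
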