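import Groth.Agent.L19.LimMod.Descend
import Groth.Agent.L19.Limit.Pullback
import Groth.Agent.L18.AmpleGG
import Groth.Prelude.Def_Pic

/-!
# Generation relative to a morphism descends from the limit
-/

set_option autoImplicit false
set_option linter.style.haveILetI false
set_option linter.unusedSectionVars false
set_option backward.isDefEq.respectTransparency false
set_option backward.isDefEq.respectTransparency.types false
set_option backward.defeqAttrib.useBackward true

universe u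

open CategoryTheory CategoryTheory.Limits AlgebraicGeometry TopologicalSpace Opposite

noncomputable section

namespace Groth.L19.LimMod

open Groth.L18.Frame (rs rs_rs pull pull_rs)

/-- A module with an epimorphism from some pullback is generated relative to the morphism. -/
theorem epi_counit_of_epi {X Y : Scheme.{u}} (f : X ⟶ Y) {A : Y.Modules} {M : X.Modules}
    (q : (Scheme.Modules.pullback f).obj A ⟶ M) [Epi q] :
    Epi ((Scheme.Modules.pullbackPushforwardAdjunction f).counit.app M) := by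
  let adj := Scheme.Modules.pullbackPushforwardAdjunction f
  have h := (adj.homEquiv A M).symm_apply_apply q
  rw [Adjunction.homEquiv_counit] at h
  exact @epi_of_epi _ _ _ _ _ _ _ (h.symm ▸ ‹Epi q›)

/-- A module of finite type generated relative to a morphism is a quotient of the pullback of a module of
finite presentation. -/
theorem exists_fp_pull_epi {X Y : Scheme.{u}} [CompactSpace Y] [QuasiSeparatedSpace Y] (f : X ⟶ Y)
    [QuasiCompact f] [QuasiSeparated f] (M : X.Modules) (hM : Coh.IsCoh M)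
    (h : Epi ((Scheme.Modules.pullbackPushforwardAdjunction f).counit.app M)) :
    ∃ (H : Y.Modules) (q : (Scheme.Modules.pullback f).obj H ⟶ M), CohB1.IsFP H ∧ Epi q := by
  classical
  haveI := hM.1
  haveI := h
  haveI : CompactSpace X := QuasiCompact.compactSpace_of_compactSpace f
  let P := (Scheme.Modules.pushforward f).obj M
  haveI : Coh.IsQCoh P := Groth.L16.QcqsPush.isQCoh_push M f
  haveI := isQCoh_pullback f P
  let ε : (Scheme.Modules.pullback f).obj P ⟶ M := (Scheme.Modules.pullbackPushforwardAdjunction f).counit.app M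
  obtain ⟨n, V, hV, hVcov⟩ := exists_affine_cover Y
  choose a ha using fun x : X => hVcov (f x)
  choose W hW hxW hWV using fun x : X =>
    exists_isAffineOpen_mem_and_subset (x := x) (U := f ⁻¹ᵁ V (a x)) (ha x)
  obtain ⟨t, ht⟩ := CompactSpace.elim_nhds_subcover (fun x : X => (W x : Set X))
    (fun x => (W x).2.mem_nhds (hxW x))
  choose s hs using fun x : X => (Groth.L20.ModStalk.finite_sections M hM (hW x)).fg_top
  let res : ∀ x : X, Γ(P, V (a x)) → Γ(M, W x) := fun x g => rs M (hWV x) (show Γ(M, f ⁻¹ᵁ V (a x)) from g)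
  have hgen : ∀ (x : X) (m : Γ(M, W x)), ∃ S : Finset Γ(P, V (a x)),
      m ∈ Submodule.span Γ(X, W x) (res x '' (S : Set Γ(P, V (a x)))) := by
    intro x m
    obtain ⟨y, rfl⟩ := Groth.L16.AffineBC.surjective_app_of_epi ε (hW x) m
    letI : Algebra Γ(Y, V (a x)) Γ(X, W x) := (f.appLE (V (a x)) (W x) (hWV x)).hom.toAlgebra
    letI := Module.compHom Γ((Scheme.Modules.pullback f).obj P, W x) (f.appLE (V (a x)) (W x) (hWV x)).hom
    haveI : IsScalarTower Γ(Y, V (a x)) Γ(X, W x) Γ((Scheme.Modules.pullback f).obj P, W x) :=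
      IsScalarTower.of_algebraMap_smul fun _ _ => rfl
    induction y using (Groth.L16.AffineBC.isBaseChange_pull f P (hV (a x)) (hW x) (hWV x)).inductionOn with
    | zero => exact ⟨∅, by rw [map_zero]; exact zero_mem _⟩
    | tmul g =>
      refine ⟨{g}, Submodule.subset_span ⟨g, Finset.mem_coe.2 (Finset.mem_singleton_self g), ?_⟩⟩
      show res x g = ε.app (W x) (rs _ (hWV x) (pull f P (V (a x)) g))
      rw [Groth.L16.EpiFrames.app_rs]
      have h1 := Groth.L17.Approx.app_pull_adjoint f (𝟙 P) (V (a x)) g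
      rw [Adjunction.homEquiv_counit, CategoryTheory.Functor.map_id, Category.id_comp] at h1
      exact congrArg (rs M (hWV x)) h1.symm
    | smul r y hy =>
      obtain ⟨S, hS⟩ := hy
      exact ⟨S, by rw [Scheme.Modules.Hom.app_smul]; exact Submodule.smul_mem _ _ hS⟩
    | add y z hy hz =>
      obtain ⟨S, hS⟩ := hy
      obtain ⟨T, hT⟩ := hz
      refine ⟨S ∪ T, ?_⟩
      rw [map_add, Finset.coe_union, Set.image_union]
      exact add_mem (Submodule.span_mono Set.subset_union_left hS) (Submodule.span_mono Set.subset_union_right hT)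
  choose S hS using hgen
  let κ := Σ x : t, Σ m : s x.1, S x.1 m.1
  obtain ⟨H, θ, hH, hθ⟩ := exists_fp_hits P (κ := κ) (fun z => V (a z.1.1)) (fun z => (hV _).isCompact)
    (fun z => z.2.2.1)
  haveI := Groth.L05.Prufer.isQCoh_of_isFP hH
  haveI := isQCoh_pullback f H
  let q := ((Scheme.Modules.pullbackPushforwardAdjunction f).homEquiv H M).symm θ
  refine ⟨H, q, hH, epi_of_hits q (fun x : t => W x.1) (fun x => hW x.1) (fun y => ?_) fun x => ?_⟩
  · obtain ⟨x, hx, hyx⟩ := Set.mem_iUnion₂.1 (ht.ge (Set.mem_univ y))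
    exact ⟨⟨x, hx⟩, hyx⟩
  refine ⟨res x.1 '' {g | ∃ m : s x.1, g ∈ S x.1 m.1}, ?_, ?_⟩
  · refine top_le_iff.1 ((hs x.1).ge.trans (Submodule.span_le.2 fun m hm => ?_))
    refine Submodule.span_mono ?_ (hS x.1 m)
    rintro _ ⟨g, hg, rfl⟩
    exact ⟨g, ⟨⟨m, hm⟩, hg⟩, rfl⟩
  · rintro _ ⟨g, ⟨m, hg⟩, rfl⟩
    obtain ⟨z, hz⟩ := hθ ⟨x, m, g, hg⟩
    refine ⟨rs _ (hWV x.1) (pull f H (V (a x.1)) z), ?_⟩
    rw [Groth.L16.EpiFrames.app_rs]
    exact congrArg (rs M (hWV x.1)) ((Groth.L17.Approx.app_pull_adjoint f θ (V (a x.1)) z).trans hz)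

open Groth.L19.Limit (bcDiagram toStage sqCone isLimitSqCone stageHom toStage_stageHom toStage_snd)

variable {I : Type u} [SmallCategory I] [IsCofiltered I] (D : I ⥤ Scheme.{u}) (c : Cone D) (hc : IsLimit c)
  [∀ (i j : I) (f : i ⟶ j), IsAffineHom (D.map f)] {i : I}

theorem affine_bcDiagram {T : Scheme.{u}} (g : T ⟶ D.obj i) :
    ∀ (j k : Over i) (f : j ⟶ k), IsAffineHom ((bcDiagram D g).map f) := fun j k f => by
  haveI : ∀ {a b : I} (t : a ⟶ b), IsAffineHom (D.map t) := fun {a b} t => affine_map D t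
  infer_instance

include hc in
/-- Generation relative to a morphism descends. -/
theorem exists_stage_epi_counit [CompactSpace (D.obj i)] [QuasiSeparatedSpace (D.obj i)]
    {X₀ Y₀ : Scheme.{u}} (f₀ : X₀ ⟶ Y₀) (g₀ : Y₀ ⟶ D.obj i) [QuasiCompact g₀] [QuasiSeparated g₀]
    [QuasiCompact (f₀ ≫ g₀)] [QuasiSeparated (f₀ ≫ g₀)]
    (L₀ : X₀.Modules) [Coh.IsQCoh L₀] (hL₀ : CohB1.IsFT L₀)
    {X Y : Scheme.{u}} (f : X ⟶ Y) (g : Y ⟶ c.pt) (qY : Y ⟶ Y₀) (qX : X ⟶ X₀)
    (hY : IsPullback qY g g₀ (c.π.app i)) (hX : IsPullback qX f f₀ qY)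
    (hgen : Epi ((Scheme.Modules.pullbackPushforwardAdjunction f).counit.app ((Scheme.Modules.pullback qX).obj L₀))) :
    ∃ (j : I) (φ : j ⟶ i), ∀ (k : I) (ψ : k ⟶ j) (Xk Yk : Scheme.{u}) (fk : Xk ⟶ Yk) (gk : Yk ⟶ D.obj k)
      (pY : Yk ⟶ Y₀) (pX : Xk ⟶ X₀), IsPullback pY gk g₀ (D.map (ψ ≫ φ)) → IsPullback pX fk f₀ pY →
        Epi ((Scheme.Modules.pullbackPushforwardAdjunction fk).counit.app ((Scheme.Modules.pullback pX).obj L₀)) := by
  classical
  let o : Over i := Over.mk (𝟙 i)
  let hXY := hX.paste_vert hY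
  let DY := bcDiagram D g₀
  let DX := bcDiagram D (f₀ ≫ g₀)
  haveI := affine_bcDiagram D g₀
  haveI := affine_bcDiagram D (f₀ ≫ g₀)
  haveI : ∀ a : Over i, CompactSpace (DY.obj a) := fun a => by
    haveI := compactSpace_obj D a.hom
    haveI : QuasiCompact (pullback.fst (D.map a.hom) g₀) := MorphismProperty.pullback_fst (P := @QuasiCompact) _ _ ‹_›
    exact QuasiCompact.compactSpace_of_compactSpace (pullback.fst (D.map a.hom) g₀)
  haveI : ∀ a : Over i, QuasiSeparatedSpace (DY.obj a) := fun a => by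
    haveI := quasiSeparatedSpace_obj D a.hom
    haveI : QuasiSeparated (pullback.fst (D.map a.hom) g₀) := MorphismProperty.pullback_fst (P := @QuasiSeparated) _ _ ‹_›
    exact quasiSeparatedSpace_of_quasiSeparated (pullback.fst (D.map a.hom) g₀)
  haveI : ∀ a : Over i, CompactSpace (DX.obj a) := fun a => by
    haveI := compactSpace_obj D a.hom
    haveI : QuasiCompact (pullback.fst (D.map a.hom) (f₀ ≫ g₀)) := MorphismProperty.pullback_fst (P := @QuasiCompact) _ _ ‹_›
    exact QuasiCompact.compactSpace_of_compactSpace (pullback.fst (D.map a.hom) (f₀ ≫ g₀))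
  haveI : ∀ a : Over i, QuasiSeparatedSpace (DX.obj a) := fun a => by
    haveI := quasiSeparatedSpace_obj D a.hom
    haveI : QuasiSeparated (pullback.fst (D.map a.hom) (f₀ ≫ g₀)) := MorphismProperty.pullback_fst (P := @QuasiSeparated) _ _ ‹_›
    exact quasiSeparatedSpace_of_quasiSeparated (pullback.fst (D.map a.hom) (f₀ ≫ g₀))
  let cY := sqCone (D := D) (c := c) (g := g₀) hY
  let cX := sqCone (D := D) (c := c) (g := f₀ ≫ g₀) hXY
  haveI : ∀ {a b : I} (t : a ⟶ b), IsAffineHom (D.map t) := fun {a b} t => affine_map D t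
  let hcY : IsLimit cY := isLimitSqCone hc hY
  let hcX : IsLimit cX := isLimitSqCone hc hXY
  haveI := affine_π DY cY hcY o
  haveI := affine_π DX cX hcX o
  haveI : CompactSpace Y := QuasiCompact.compactSpace_of_compactSpace (cY.π.app o)
  haveI : QuasiSeparatedSpace Y := quasiSeparatedSpace_of_quasiSeparated (cY.π.app o)
  haveI : CompactSpace X := QuasiCompact.compactSpace_of_compactSpace (cX.π.app o)
  haveI : QuasiSeparatedSpace X := quasiSeparatedSpace_of_quasiSeparated (cX.π.app o)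
  haveI : QuasiSeparated f := QuasiSeparated.of_quasiSeparatedSpace f
  haveI : QuasiCompact f :=
    haveI : QuasiCompact (f ≫ Limits.terminal.from Y) := by
      rw [show f ≫ Limits.terminal.from Y = Limits.terminal.from X from Subsingleton.elim _ _]
      exact quasiCompact_iff_compactSpace _ |>.2 ‹_›
    QuasiCompact.of_comp f (Limits.terminal.from Y)
  obtain ⟨H, q, hH, hq⟩ := exists_fp_pull_epi f _ (isCoh_pullback' qX ⟨inferInstance, hL₀⟩) hgen
  haveI := hq
  haveI := Groth.L05.Prufer.isQCoh_of_isFP hH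
  obtain ⟨j, -, Hj, hHjq, hHjf, ⟨eH⟩⟩ := exists_module DY cY hcY (i := o) H hH
  let F := (Scheme.Modules.pullback (stageHom f₀ g₀ j)).obj Hj
  let G := (Scheme.Modules.pullback (pullback.snd (D.map j.hom) (f₀ ≫ g₀))).obj L₀
  haveI : Coh.IsQCoh F := isQCoh_pullback _ _
  haveI : Coh.IsQCoh G := isQCoh_pullback _ _
  have hG : Coh.IsCoh G := isCoh_pullback' _ ⟨inferInstance, hL₀⟩
  let eF : (Scheme.Modules.pullback (cX.π.app j)).obj F ≅ (Scheme.Modules.pullback f).obj H :=
    (Scheme.Modules.pullbackComp (cX.π.app j) (stageHom f₀ g₀ j)).app Hj ≪≫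
      (Scheme.Modules.pullbackCongr (toStage_stageHom hY hX j)).app Hj ≪≫
      ((Scheme.Modules.pullbackComp f (cY.π.app j)).app Hj).symm ≪≫ (Scheme.Modules.pullback f).mapIso eH
  let eG : (Scheme.Modules.pullback (cX.π.app j)).obj G ≅ (Scheme.Modules.pullback qX).obj L₀ :=
    cmp (cX.π.app j) (pullback.snd (D.map j.hom) (f₀ ≫ g₀)) (toStage_snd hXY j) L₀
  let h0 : (Scheme.Modules.pullback (cX.π.app j)).obj F ⟶ (Scheme.Modules.pullback (cX.π.app j)).obj G :=
    eF.hom ≫ q ≫ eG.inv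
  obtain ⟨k, ψ, hk, hhk⟩ := exists_hom DX cX hcX (i := j) F G (isFP_pullback' _ _ hHjf) h0
  haveI hepi : Epi ((Scheme.Modules.pullback (cX.π.app k)).map hk) := by
    have e : (Scheme.Modules.pullback (cX.π.app k)).map hk =
        (cmp (cX.π.app k) (DX.map ψ) (cX.w ψ) F).hom ≫ h0 ≫ (cmp (cX.π.app k) (DX.map ψ) (cX.w ψ) G).inv := by
      rw [← hhk, tr]
      simp
    rw [e]
    simp only [h0]
    infer_instance
  haveI := isQCoh_pullback (DX.map ψ) F
  obtain ⟨l, χ, hl⟩ := exists_epi DX cX hcX (i := k) (isCoh_pullback' (DX.map ψ) hG) hk hepi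
  refine ⟨l.left, l.hom, fun b ξ Xk Yk fk gk pY pX hkY hkX => ?_⟩
  haveI := hl
  let s : Xk ⟶ DX.obj l := pullback.lift (fk ≫ gk ≫ D.map ξ) pX (by
    rw [Category.assoc, Category.assoc, ← D.map_comp, ← hkY.w, reassoc_of% hkX.w])
  let sY : Yk ⟶ DY.obj j := pullback.lift (gk ≫ D.map (ξ ≫ χ.left ≫ ψ.left)) pY (by
    rw [Category.assoc, ← D.map_comp, Category.assoc, Category.assoc, Over.w ψ, Over.w χ, hkY.w])
  let t := (s ≫ DX.map χ) ≫ DX.map ψ
  have ht : t ≫ stageHom f₀ g₀ j = fk ≫ sY := by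
    apply pullback.hom_ext
    · simp [t, s, sY, DX, bcDiagram, stageHom]
    · simp [t, s, sY, DX, bcDiagram, stageHom, hkX.w]
  have htG : t ≫ pullback.snd (D.map j.hom) (f₀ ≫ g₀) = pX := by simp [t, s, DX, bcDiagram]
  haveI := preservesColimits_pullback s
  haveI : Epi ((Scheme.Modules.pullback (s ≫ DX.map χ)).map hk) := by
    rw [show (Scheme.Modules.pullback (s ≫ DX.map χ)).map hk =
      ((Scheme.Modules.pullbackComp s (DX.map χ)).inv.app _) ≫
        (Scheme.Modules.pullback s).map ((Scheme.Modules.pullback (DX.map χ)).map hk) ≫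
          ((Scheme.Modules.pullbackComp s (DX.map χ)).hom.app _) from
      ((Iso.inv_comp_eq ((Scheme.Modules.pullbackComp s (DX.map χ)).app _)).2
        ((Scheme.Modules.pullbackComp s (DX.map χ)).hom.naturality hk)).symm]
    infer_instance
  haveI := epi_tr' (s ≫ DX.map χ) (DX.map ψ) (r := t) rfl hk
  exact epi_counit_of_epi fk (A := (Scheme.Modules.pullback sY).obj Hj)
    ((cmp fk sY ht.symm Hj).hom ≫ (cmp t (stageHom f₀ g₀ j) rfl Hj).inv ≫ tr (s ≫ DX.map χ) (DX.map ψ) rfl hk ≫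
      (cmp t (pullback.snd (D.map j.hom) (f₀ ≫ g₀)) htG L₀).hom)

end Groth.L19.LimMod
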