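import Groth.Agent.L19.LimMod.Zero
import Mathlib.Algebra.Homology.ShortComplex.Exact
import Mathlib.Algebra.Homology.ShortComplex.Abelian

/-!
# Right exact sequences and factorisations descend from the limit
-/

set_option autoImplicit false
set_option linter.style.haveILetI false
set_option linter.unusedSectionVars false
set_option backward.isDefEq.respectTransparency false
set_option backward.isDefEq.respectTransparency.types false

universe u

open CategoryTheory CategoryTheory.Limits AlgebraicGeometry TopologicalSpace Opposite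

noncomputable section

namespace Groth.L19.LimMod

section Abelian

variable {C : Type*} [Category C] [Abelian C]

/-- `A ⟶ B ⟶ E ⟶ 0` is exact. -/
def ExR {A B E : C} (f : A ⟶ B) (g : B ⟶ E) : Prop :=
  ∃ w : f ≫ g = 0, (ShortComplex.mk f g w).Exact ∧ Epi g

theorem exR_of_iso {A B E A' B' E' : C} {f : A ⟶ B} {g : B ⟶ E} {f' : A' ⟶ B'} {g' : B' ⟶ E'}
    (a : A ≅ A') (b : B ≅ B') (e : E ≅ E') (hf : a.hom ≫ f' = f ≫ b.hom) (hg : b.hom ≫ g' = g ≫ e.hom)
    (h : ExR f g) : ExR f' g' := by
  obtain ⟨w, he, hepi⟩ := h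
  have w' : f' ≫ g' = 0 := by
    rw [← cancel_epi a.hom, reassoc_of% hf, hg, reassoc_of% w, zero_comp, comp_zero]
  refine ⟨w', (ShortComplex.exact_iff_of_iso (ShortComplex.isoMk (S₁ := ShortComplex.mk f g w)
    (S₂ := ShortComplex.mk f' g' w') a b e hf hg)).1 he, ?_⟩
  haveI : Epi (b.hom ≫ g') := by rw [hg]; infer_instance
  exact epi_of_epi b.hom g'

theorem exR_iff_isIso_desc {A B E : C} (f : A ⟶ B) (g : B ⟶ E) (w : f ≫ g = 0) :
    ExR f g ↔ IsIso (cokernel.desc f g w) := by
  constructor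
  · rintro ⟨_, he, hg⟩
    haveI := hg
    let e := (cokernelIsCokernel f).coconePointUniqueUpToIso he.gIsCokernel
    have : cokernel.desc f g w = e.hom := by
      refine (cancel_epi (cokernel.π f)).1 ?_
      rw [cokernel.π_desc]
      exact ((cokernelIsCokernel f).comp_coconePointUniqueUpToIso_hom he.gIsCokernel WalkingParallelPair.one).symm
    rw [this]; infer_instance
  · intro h
    haveI : Epi g := by rw [← cokernel.π_desc f g w]; infer_instance
    refine ⟨w, ShortComplex.exact_of_g_is_cokernel _ ?_, inferInstance⟩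
    exact cokernel.cokernelIso f _ (asIso (cokernel.desc f g w)) (cokernel.π_desc f g w)

theorem exR_cokernel {A B : C} (f : A ⟶ B) : ExR f (cokernel.π f) :=
  ⟨cokernel.condition f, ShortComplex.exact_of_g_is_cokernel _ (cokernelIsCokernel f), inferInstance⟩

theorem exR_kernel {B E : C} (g : B ⟶ E) [Epi g] : ExR (kernel.ι g) g :=
  ⟨kernel.condition g, ShortComplex.exact_of_f_is_kernel _ (kernelIsKernel g), inferInstance⟩

end Abelian

section Pullback

variable {X Y : Scheme.{u}} (f : X ⟶ Y)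

theorem exR_map {A B E : Y.Modules} {u : A ⟶ B} {v : B ⟶ E} (h : ExR u v) :
    ExR ((Scheme.Modules.pullback f).map u) ((Scheme.Modules.pullback f).map v) := by
  haveI := preservesColimits_pullback f
  haveI := additive_pullback f
  obtain ⟨w, he, hv⟩ := h
  haveI := hv
  have w' : (Scheme.Modules.pullback f).map u ≫ (Scheme.Modules.pullback f).map v = 0 := by
    rw [← Functor.map_comp, w, Functor.map_zero]
  exact ⟨w', ShortComplex.exact_of_g_is_cokernel (ShortComplex.mk _ _ w')
    (CokernelCofork.mapIsColimit _ he.gIsCokernel (Scheme.Modules.pullback f)), inferInstance⟩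

theorem exR_map_iff {A B E : Y.Modules} (u : A ⟶ B) (v : B ⟶ E) (w : u ≫ v = 0) :
    ExR ((Scheme.Modules.pullback f).map u) ((Scheme.Modules.pullback f).map v) ↔
      IsIso ((Scheme.Modules.pullback f).map (cokernel.desc u v w)) := by
  haveI := preservesColimits_pullback f
  haveI := additive_pullback f
  have w' : (Scheme.Modules.pullback f).map u ≫ (Scheme.Modules.pullback f).map v = 0 := by
    rw [← Functor.map_comp, w, Functor.map_zero]
  rw [exR_iff_isIso_desc _ _ w']
  have e : (Scheme.Modules.pullback f).map (cokernel.desc u v w) =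
      (PreservesCokernel.iso (Scheme.Modules.pullback f) u).hom ≫ cokernel.desc _ _ w' := by
    haveI : Epi ((Scheme.Modules.pullback f).map (cokernel.π u)) := inferInstance
    rw [← cancel_epi ((Scheme.Modules.pullback f).map (cokernel.π u)), ← Functor.map_comp, cokernel.π_desc,
      PreservesCokernel.π_iso_hom_assoc, cokernel.π_desc]
  rw [e]
  exact ⟨fun h => inferInstance, fun h => IsIso.of_isIso_comp_left (PreservesCokernel.iso _ u).hom _⟩

end Pullback

variable {I : Type u} [SmallCategory I] [IsCofiltered I] (D : I ⥤ Scheme.{u}) (c : Cone D) (hc : IsLimit c)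
  [∀ (i j : I) (f : i ⟶ j), IsAffineHom (D.map f)]
variable {i : I} {F G H : (D.obj i).Modules}

theorem exR_trans {X Y : Scheme.{u}} (p : X ⟶ Y) (q : Y ⟶ D.obj i) {r : X ⟶ D.obj i} (w : p ≫ q = r)
    (u : F ⟶ G) (v : G ⟶ H)
    (h : ExR ((Scheme.Modules.pullback p).map ((Scheme.Modules.pullback q).map u))
      ((Scheme.Modules.pullback p).map ((Scheme.Modules.pullback q).map v))) :
    ExR ((Scheme.Modules.pullback r).map u) ((Scheme.Modules.pullback r).map v) :=
  exR_of_iso (cmp p q w F) (cmp p q w G) (cmp p q w H) (cmp_naturality p q w u).symm (cmp_naturality p q w v).symm h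

theorem exR_π_of_exR {j : I} (φ : j ⟶ i) (u : F ⟶ G) (v : G ⟶ H)
    (h : ExR ((Scheme.Modules.pullback (D.map φ)).map u) ((Scheme.Modules.pullback (D.map φ)).map v)) :
    ExR ((Scheme.Modules.pullback (c.π.app i)).map u) ((Scheme.Modules.pullback (c.π.app i)).map v) :=
  exR_trans D (c.π.app j) (D.map φ) (c.w φ) u v (exR_map (c.π.app j) h)

include hc in
/-- Right exactness descends. -/
theorem exists_exR [CompactSpace (D.obj i)] (hF : Coh.IsCoh F) (hG : Coh.IsCoh G) [Coh.IsQCoh H]
    (hH : CohB1.IsFP H) (u : F ⟶ G) (v : G ⟶ H)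
    (h : ExR ((Scheme.Modules.pullback (c.π.app i)).map u) ((Scheme.Modules.pullback (c.π.app i)).map v)) :
    ∃ (j : I) (φ : j ⟶ i),
      ExR ((Scheme.Modules.pullback (D.map φ)).map u) ((Scheme.Modules.pullback (D.map φ)).map v) := by
  haveI := hF.1
  haveI := hG.1
  obtain ⟨j, φ, hφ⟩ := exists_map_eq_zero D c hc hF (u ≫ v) (by rw [Functor.map_comp]; exact h.1)
  rw [Functor.map_comp] at hφ
  let u' := (Scheme.Modules.pullback (D.map φ)).map u
  let v' := (Scheme.Modules.pullback (D.map φ)).map v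
  haveI := isQCoh_pullback (D.map φ) F
  haveI := isQCoh_pullback (D.map φ) G
  haveI := isQCoh_pullback (D.map φ) H
  haveI := compactSpace_obj D φ
  haveI : Coh.IsQCoh (cokernel u') := Groth.L29.DC.isQCoh_cokernel' u' inferInstance inferInstance
  have hQ : Coh.IsCoh (cokernel u') :=
    ⟨inferInstance, Groth.L17.Approx.isFT_of_epi (cokernel.π u') (isCoh_pullback' (D.map φ) hG).2⟩
  have hπ : ExR ((Scheme.Modules.pullback (c.π.app j)).map u') ((Scheme.Modules.pullback (c.π.app j)).map v') :=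
    exR_of_iso (cmp (c.π.app j) (D.map φ) (c.w φ) F).symm (cmp (c.π.app j) (D.map φ) (c.w φ) G).symm
      (cmp (c.π.app j) (D.map φ) (c.w φ) H).symm
      (by simp only [Iso.symm_hom]; rw [Iso.inv_comp_eq, ← Category.assoc, Iso.eq_comp_inv]; exact cmp_naturality _ _ _ u)
      (by simp only [Iso.symm_hom]; rw [Iso.inv_comp_eq, ← Category.assoc, Iso.eq_comp_inv]; exact cmp_naturality _ _ _ v) h
  obtain ⟨k, ψ, hψ⟩ := exists_isIso D c hc hQ (isFP_pullback' (D.map φ) H hH) (cokernel.desc u' v' hφ)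
    ((exR_map_iff _ u' v' hφ).1 hπ)
  exact ⟨k, ψ ≫ φ, exR_trans D (D.map ψ) (D.map φ) (D.map_comp ψ φ).symm u v ((exR_map_iff _ u' v' hφ).2 hψ)⟩

theorem factor_π_of_factor {j : I} (φ : j ⟶ i) (p₁ : F ⟶ G) (p₂ : F ⟶ H)
    (k : (Scheme.Modules.pullback (D.map φ)).obj G ⟶ (Scheme.Modules.pullback (D.map φ)).obj H)
    (h : (Scheme.Modules.pullback (D.map φ)).map p₁ ≫ k = (Scheme.Modules.pullback (D.map φ)).map p₂) :
    ∃ k' : (Scheme.Modules.pullback (c.π.app i)).obj G ⟶ (Scheme.Modules.pullback (c.π.app i)).obj H,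
      (Scheme.Modules.pullback (c.π.app i)).map p₁ ≫ k' = (Scheme.Modules.pullback (c.π.app i)).map p₂ :=
  ⟨tr (c.π.app j) (D.map φ) (c.w φ) k, by rw [← tr_map_comp, h, tr_map]⟩

include hc in
/-- Factorisations through a quotient of finite presentation descend. -/
theorem exists_factor [CompactSpace (D.obj i)] (hF : Coh.IsCoh F) [Coh.IsQCoh G] (hG : CohB1.IsFP G)
    [Coh.IsQCoh H] (p₁ : F ⟶ G) (p₂ : F ⟶ H) [Epi p₁]
    (k : (Scheme.Modules.pullback (c.π.app i)).obj G ⟶ (Scheme.Modules.pullback (c.π.app i)).obj H)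
    (h : (Scheme.Modules.pullback (c.π.app i)).map p₁ ≫ k = (Scheme.Modules.pullback (c.π.app i)).map p₂) :
    ∃ (j : I) (φ : j ⟶ i) (k' : (Scheme.Modules.pullback (D.map φ)).obj G ⟶ (Scheme.Modules.pullback (D.map φ)).obj H),
      (Scheme.Modules.pullback (D.map φ)).map p₁ ≫ k' = (Scheme.Modules.pullback (D.map φ)).map p₂ := by
  haveI := hF.1
  obtain ⟨j, φ, hφ⟩ := exists_map_eq_zero D c hc (isCoh_kernel p₁ hF.2 hG) (kernel.ι p₁ ≫ p₂) (by
    rw [Functor.map_comp, ← h, ← Functor.map_comp_assoc, kernel.condition, pullback_map_zero, zero_comp])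
  rw [Functor.map_comp] at hφ
  obtain ⟨w, he, hepi⟩ := exR_map (D.map φ) (exR_kernel p₁)
  haveI := hepi
  obtain ⟨k', hk'⟩ := CokernelCofork.IsColimit.desc' he.gIsCokernel _ hφ
  exact ⟨j, φ, k', hk'⟩

end Groth.L19.LimMod
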